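import Groth.Agent.ArtFun.K725.Essential
import Mathlib.RingTheory.Etale.Field
import Mathlib.RingTheory.Smooth.Basic

/-!
# Sections over the residue field when `k` is separable over the image of `Λ`
-/

set_option autoImplicit false
set_option linter.style.haveILetI false
set_option linter.unusedSectionVars false

universe u v

open CategoryTheory
open scoped TensorProduct

namespace K725.Separable

open ArtFun ArtFun.Art K724.Basic

variable {Λ : Type u} {k : Type u} [CommRing Λ] [Field k] [Algebra Λ k]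

theorem formallyEtale_of_isField {K k : Type u} [CommRing K] [Field k] [Algebra K k] (hK : IsField K)
    [Algebra.IsSeparable K k] : Algebra.FormallyEtale K k := by
  letI := hK.toField
  exact Algebra.FormallyEtale.of_isSeparable K k

theorem isField_range [Module.Finite Λ k] : IsField (algebraMap Λ k).range := by
  letI : Algebra Λ (algebraMap Λ k).range := (algebraMap Λ k).rangeRestrict.toAlgebra
  haveI : IsScalarTower Λ (algebraMap Λ k).range k := IsScalarTower.of_algebraMap_eq fun _ => rfl
  haveI : Module.Finite (algebraMap Λ k).range k := Module.Finite.of_restrictScalars_finite Λ _ _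
  exact isField_of_isIntegral_of_isField (Subtype.val_injective : Function.Injective
    (algebraMap (algebraMap Λ k).range k)) (Field.toIsField k)

/-- Square-zero (indeed nilpotent) thickenings of `k` killed by `ker (Λ → k)` have sections when `k` is separable over the
image of `Λ`. -/
theorem exists_section_of_isSeparable [Module.Finite Λ k] [Algebra.IsSeparable (↥(algebraMap Λ k).range) k]
    {Q : Type u} [CommRing Q] [Algebra Λ Q] (γ : Q →ₐ[Λ] k) (hγ : Function.Surjective γ)
    (hnil : IsNilpotent (RingHom.ker γ)) (hΛ : RingHom.ker (algebraMap Λ k) ≤ RingHom.ker (algebraMap Λ Q)) :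
    ∃ s : k →ₐ[Λ] Q, γ.comp s = AlgHom.id Λ k := by
  haveI := formallyEtale_of_isField (K := (algebraMap Λ k).range) (k := k) isField_range
  let e := (algebraMap Λ k).quotientKerEquivRange
  let q : (algebraMap Λ k).range →+* Q :=
    (Ideal.Quotient.lift (RingHom.ker (algebraMap Λ k)) (algebraMap Λ Q) (fun a ha => hΛ ha)).comp e.symm.toRingHom
  letI : Algebra (algebraMap Λ k).range Q := q.toAlgebra
  have hq : ∀ r : Λ, q ⟨algebraMap Λ k r, ⟨r, rfl⟩⟩ = algebraMap Λ Q r := by
    intro r
    have h1 : e.symm ⟨algebraMap Λ k r, ⟨r, rfl⟩⟩ = Ideal.Quotient.mk _ r := by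
      rw [RingEquiv.symm_apply_eq]
      rfl
    change Ideal.Quotient.lift (RingHom.ker (algebraMap Λ k)) (algebraMap Λ Q) (fun a ha => hΛ ha) (e.symm _) = _
    rw [h1]
    rfl
  let γ' : Q →ₐ[(algebraMap Λ k).range] k :=
    { γ.toRingHom with
      commutes' := by
        rintro ⟨_, r, rfl⟩
        change γ (q ⟨algebraMap Λ k r, ⟨r, rfl⟩⟩) = algebraMap Λ k r
        rw [hq]
        exact γ.commutes r }
  let s := Algebra.FormallySmooth.liftOfSurjective (AlgHom.id (algebraMap Λ k).range k) γ' hγ hnil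
  have hs : ∀ c, γ' (s c) = c := fun c =>
    Algebra.FormallySmooth.liftOfSurjective_apply (AlgHom.id (algebraMap Λ k).range k) γ' hγ hnil c
  refine ⟨{ s.toRingHom with commutes' := fun r => ?_ }, ?_⟩
  · change s (algebraMap Λ k r) = algebraMap Λ Q r
    rw [← hq]
    exact s.commutes ⟨algebraMap Λ k r, ⟨r, rfl⟩⟩
  · ext c
    exact hs c

/-- In the separable case point derivations detect elements outside `m_Λ S + m_S²`. -/
theorem exists_derSub [Module.Finite Λ k] [Algebra.IsSeparable (↥(algebraMap Λ k).range) k]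
    {S : Type u} [CommRing S] [Algebra Λ S] (γ : S →ₐ[Λ] k) (hγ : Function.Surjective γ)
    (x₀ : S) (hx₀ : x₀ ∈ RingHom.ker γ)
    (hx₀' : x₀ ∉ Ideal.map (algebraMap Λ S) (RingHom.ker (algebraMap Λ k)) ⊔ RingHom.ker γ ^ 2) :
    ∃ D ∈ Essential.derSub γ, D x₀ ≠ 0 := by
  set J := Ideal.map (algebraMap Λ S) (RingHom.ker (algebraMap Λ k)) ⊔ RingHom.ker γ ^ 2 with hJdef
  have hJ : J ≤ RingHom.ker γ := by
    refine sup_le ?_ (Ideal.pow_le_self two_ne_zero)
    rw [Ideal.map_le_iff_le_comap]
    intro r hr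
    rw [Ideal.mem_comap, RingHom.mem_ker, AlgHom.commutes]
    exact hr
  have hJ2 : RingHom.ker γ ^ 2 ≤ J := le_sup_right
  let γ' : S ⧸ J →ₐ[Λ] k := Ideal.Quotient.liftₐ J γ (fun _ ha => hJ ha)
  have hγ' : Function.Surjective γ' := fun c => by
    obtain ⟨x, hx⟩ := hγ c
    exact ⟨Ideal.Quotient.mk J x, hx⟩
  have hnil : IsNilpotent (RingHom.ker γ') := by
    refine ⟨2, ?_⟩
    rw [Ideal.zero_eq_bot, eq_bot_iff, pow_two, Ideal.mul_le]
    intro x hx y hy
    obtain ⟨a, rfl⟩ := Ideal.Quotient.mk_surjective x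
    obtain ⟨b, rfl⟩ := Ideal.Quotient.mk_surjective y
    rw [← map_mul, Ideal.mem_bot, Ideal.Quotient.eq_zero_iff_mem]
    refine hJ2 ?_
    rw [pow_two]
    exact Ideal.mul_mem_mul hx hy
  obtain ⟨s, hs⟩ := exists_section_of_isSeparable γ' hγ' hnil (fun r hr => by
    rw [RingHom.mem_ker]
    change Ideal.Quotient.mk J (algebraMap Λ S r) = 0
    rw [Ideal.Quotient.eq_zero_iff_mem]
    exact Ideal.mem_sup_left (Ideal.mem_map_of_mem _ hr))
  obtain ⟨D, h1, -, h3, h4⟩ := Tangent.exists_derivation γ J hJ hJ2 s hs x₀ hx₀ hx₀'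
  exact ⟨D, ⟨D.map_add, h1, fun r => h3 _ (algebraMap Λ k r) (s.commutes r).symm⟩, h4⟩

end K725.Separable
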