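import Groth.Prelude.Def_ArtFun5
import Groth.Agent.Ega4A.CompleteNoeth
import Mathlib.RingTheory.AdicCompletion.RingHom

/-!
# Completing an augmented `Λ`-algebra to a coefficient ring

`T` a `Λ`-algebra with a surjection `ρ : T → k` whose kernel is finitely generated.  The completion of `T` along
`ker ρ` is an object of `CRing Λ k` (`cpl`), and augmented maps out of it into an augmented local algebra which is
complete for its maximal ideal are the same as augmented maps out of `T`.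
-/

set_option autoImplicit false
set_option linter.style.haveILetI false

universe u v

open CategoryTheory

namespace K725.Completion

open ArtFun

section General

variable {Λ : Type u} {k : Type u} [CommRing Λ] [Field k] [Algebra Λ k]

/-- An augmented map sends powers of the augmentation ideal into powers. -/
lemma map_ker_pow_le {S C : Type u} [CommRing S] [Algebra Λ S] [CommRing C] [Algebra Λ C]
    (σ : S →ₐ[Λ] k) (γ : C →ₐ[Λ] k) (φ : S →ₐ[Λ] C) (hφ : γ.comp φ = σ) (n : ℕ) :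
    (RingHom.ker σ) ^ n ≤ ((RingHom.ker γ) ^ n).comap φ := by
  have h1 : RingHom.ker σ ≤ (RingHom.ker γ).comap φ := by
    intro x hx
    rw [Ideal.mem_comap, RingHom.mem_ker]
    rw [RingHom.mem_ker] at hx
    rw [← hx, ← hφ]
    rfl
  exact (Ideal.pow_right_mono h1 n).trans (Ideal.le_comap_pow _ _)

/-- Two augmented maps out of `S` into a separated augmented algebra which agree along a map with dense image are equal. -/
lemma hom_ext_of_dense {T S C : Type u} [CommRing T] [Algebra Λ T] [CommRing S] [Algebra Λ S]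
    [CommRing C] [Algebra Λ C] (σ : S →ₐ[Λ] k) (γ : C →ₐ[Λ] k) [IsHausdorff (RingHom.ker γ) C]
    (ι : T →ₐ[Λ] S) (hι : ∀ (n : ℕ) (s : S), ∃ t : T, s - ι t ∈ (RingHom.ker σ) ^ n)
    (f g : S →ₐ[Λ] C) (hf : γ.comp f = σ) (hg : γ.comp g = σ) (h : f.comp ι = g.comp ι) : f = g := by
  ext s
  refine eq_of_sub_eq_zero (IsHausdorff.haus ‹IsHausdorff (RingHom.ker γ) C› _ fun n => ?_)
  obtain ⟨t, ht⟩ := hι n s
  rw [SModEq.zero]
  have h1 : f s - g s = f (s - ι t) - g (s - ι t) := by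
    have h2 : f (ι t) = g (ι t) := DFunLike.congr_fun h t
    rw [map_sub, map_sub, h2]; ring
  rw [h1, smul_eq_mul, Ideal.mul_top]
  exact sub_mem (map_ker_pow_le σ γ f hf n ht) (map_ker_pow_le σ γ g hg n ht)

end General

section Cpl

variable {Λ : Type u} {k : Type u} [CommRing Λ] [Field k] [Algebra Λ k]
variable {T : Type u} [CommRing T] [Algebra Λ T] (ρ : T →ₐ[Λ] k)

/-- The completion of `T` along the kernel of `ρ`. -/
abbrev Cpl : Type u := AdicCompletion (RingHom.ker ρ) T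

lemma ker_isMaximal_of_surj (hρ : Function.Surjective ρ) : (RingHom.ker ρ).IsMaximal :=
  RingHom.ker_isMaximal_of_surjective (ρ : T →+* k) hρ

/-- The augmentation of the completion. -/
noncomputable def cplRes (hρ : Function.Surjective ρ) : Cpl ρ →ₐ[Λ] k := AdicCompletion.kerProj hρ

/-- The map to the completion. -/
noncomputable def ι : T →ₐ[Λ] Cpl ρ :=
  (Algebra.ofId T (Cpl ρ)).restrictScalars Λ

lemma ι_apply (x : T) : ι ρ x = algebraMap T (Cpl ρ) x := rfl

lemma cplRes_comp (hρ : Function.Surjective ρ) : (cplRes ρ hρ).comp (ι ρ) = ρ := by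
  ext x
  exact AdicCompletion.kerProj_of hρ x

lemma ker_cplRes (hρ : Function.Surjective ρ) (hfg : (RingHom.ker ρ).FG) :
    RingHom.ker (cplRes ρ hρ) = (RingHom.ker ρ).map (algebraMap T (Cpl ρ)) := by
  haveI := ker_isMaximal_of_surj ρ hρ
  have hmax := AdicCompletion.isMaximal_map_of_le (RingHom.ker ρ) (RingHom.ker ρ) le_rfl hfg
  symm
  refine hmax.eq_of_le (RingHom.ker_ne_top _) ?_
  rw [Ideal.map_le_iff_le_comap]
  intro x hx
  rw [Ideal.mem_comap, RingHom.mem_ker]
  have := DFunLike.congr_fun (cplRes_comp ρ hρ) x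
  exact this.trans hx

lemma isLocalRing_cpl (hρ : Function.Surjective ρ) (hfg : (RingHom.ker ρ).FG) : IsLocalRing (Cpl ρ) := by
  haveI := ker_isMaximal_of_surj ρ hρ
  haveI := AdicCompletion.isMaximal_map_of_le (RingHom.ker ρ) (RingHom.ker ρ) le_rfl hfg
  haveI := AdicCompletion.isAdicComplete_self (RingHom.ker ρ) hfg
  exact isLocalRing_of_isAdicComplete_maximal ((RingHom.ker ρ).map (algebraMap T (Cpl ρ)))

lemma maximalIdeal_cpl (hρ : Function.Surjective ρ) (hfg : (RingHom.ker ρ).FG) :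
    haveI := isLocalRing_cpl ρ hρ hfg
    IsLocalRing.maximalIdeal (Cpl ρ) = (RingHom.ker ρ).map (algebraMap T (Cpl ρ)) := by
  haveI := ker_isMaximal_of_surj ρ hρ
  haveI := isLocalRing_cpl ρ hρ hfg
  exact (IsLocalRing.eq_maximalIdeal
    (AdicCompletion.isMaximal_map_of_le (RingHom.ker ρ) (RingHom.ker ρ) le_rfl hfg)).symm

lemma cplRes_surjective (hρ : Function.Surjective ρ) : Function.Surjective (cplRes ρ hρ) :=
  AdicCompletion.kerProj_surjective hρ

/-- **The completion as a coefficient ring.** -/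
noncomputable def cpl (hρ : Function.Surjective ρ) (hfg : (RingHom.ker ρ).FG) : CRing Λ k :=
  haveI := ker_isMaximal_of_surj ρ hρ
  haveI := isLocalRing_cpl ρ hρ hfg
  { carrier := Cpl ρ
    isNoetherianRing := by
      letI : Field (T ⧸ RingHom.ker ρ) := Ideal.Quotient.field _
      exact Groth.Agent.Ega4A.CompleteNoeth.isNoetherianRing_adicCompletion_of_fg (RingHom.ker ρ) hfg
    res := cplRes ρ hρ
    res_surjective := cplRes_surjective ρ hρ
    isAdicComplete := by
      rw [maximalIdeal_cpl ρ hρ hfg]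
      exact AdicCompletion.isAdicComplete_self (RingHom.ker ρ) hfg }

/-- The map from `T` to `cpl`, with the carrier of `cpl` as target. -/
noncomputable def toCpl (hρ : Function.Surjective ρ) (hfg : (RingHom.ker ρ).FG) : T →ₐ[Λ] (cpl ρ hρ hfg).carrier :=
  ι ρ

lemma res_comp_toCpl (hρ : Function.Surjective ρ) (hfg : (RingHom.ker ρ).FG) :
    (cpl ρ hρ hfg).res.comp (toCpl ρ hρ hfg) = ρ := cplRes_comp ρ hρ

lemma sub_mem_pow (hfg : (RingHom.ker ρ).FG) (n : ℕ) (s : Cpl ρ) :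
    ∃ t : T, s - ι ρ t ∈ ((RingHom.ker ρ).map (algebraMap T (Cpl ρ))) ^ n := by
  obtain ⟨t, ht⟩ := Ideal.Quotient.mk_surjective (AdicCompletion.evalₐ (RingHom.ker ρ) n s)
  refine ⟨t, ?_⟩
  rw [← Ideal.map_pow, ← Submodule.restrictScalars_mem T, ← Ideal.smul_top_eq_map,
    AdicCompletion.pow_smul_top_eq_ker_eval hfg, LinearMap.mem_ker]
  have h : (RingHom.ker ρ ^ n) ≤ (RingHom.ker ρ ^ n • ⊤ : Ideal T) := by simp
  rw [← AdicCompletion.factor_evalₐ_eq_eval (RingHom.ker ρ) _ h, map_sub, ← ht]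
  have h2 : AdicCompletion.evalₐ (RingHom.ker ρ) n (ι ρ t) = Ideal.Quotient.mk _ t :=
    AdicCompletion.evalₐ_of _ _ _
  rw [h2, sub_self, map_zero]

lemma map_pow_mem_iff (hfg : (RingHom.ker ρ).FG) (n : ℕ) (t : T) :
    ι ρ t ∈ ((RingHom.ker ρ).map (algebraMap T (Cpl ρ))) ^ n ↔ t ∈ RingHom.ker ρ ^ n := by
  constructor
  · intro h
    rw [← Ideal.map_pow, ← Submodule.restrictScalars_mem T, ← Ideal.smul_top_eq_map,
      AdicCompletion.pow_smul_top_eq_ker_eval hfg, LinearMap.mem_ker] at h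
    have h' : (RingHom.ker ρ ^ n • ⊤ : Ideal T) ≤ (RingHom.ker ρ ^ n)  := by simp
    have h2 := AdicCompletion.factor_eval_eq_evalₐ (RingHom.ker ρ) (ι ρ t) h'
    rw [h, map_zero] at h2
    have h3 : AdicCompletion.evalₐ (RingHom.ker ρ) n (ι ρ t) = Ideal.Quotient.mk _ t :=
      AdicCompletion.evalₐ_of _ _ _
    rw [h3] at h2
    exact Ideal.Quotient.eq_zero_iff_mem.1 h2.symm
  · intro h
    rw [← Ideal.map_pow]
    exact Ideal.mem_map_of_mem _ h

/-- Powers of the maximal ideal of the completion. -/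
lemma maximalIdeal_cpl_pow (hρ : Function.Surjective ρ) (hfg : (RingHom.ker ρ).FG) (n : ℕ) :
    IsLocalRing.maximalIdeal (cpl ρ hρ hfg).carrier ^ n =
      ((RingHom.ker ρ).map (algebraMap T (Cpl ρ))) ^ n :=
  congrArg (· ^ n) (maximalIdeal_cpl ρ hρ hfg)

/-- The image of `T` is dense in the completion. -/
lemma exists_sub_mem_maximalIdeal_pow (hρ : Function.Surjective ρ) (hfg : (RingHom.ker ρ).FG) (n : ℕ)
    (s : (cpl ρ hρ hfg).carrier) :
    ∃ t : T, s - toCpl ρ hρ hfg t ∈ IsLocalRing.maximalIdeal (cpl ρ hρ hfg).carrier ^ n := by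
  rw [maximalIdeal_cpl_pow]
  exact sub_mem_pow ρ hfg n s

lemma toCpl_mem_maximalIdeal_pow_iff (hρ : Function.Surjective ρ) (hfg : (RingHom.ker ρ).FG) (n : ℕ) (t : T) :
    toCpl ρ hρ hfg t ∈ IsLocalRing.maximalIdeal (cpl ρ hρ hfg).carrier ^ n ↔ t ∈ RingHom.ker ρ ^ n := by
  rw [maximalIdeal_cpl_pow]
  exact map_pow_mem_iff ρ hfg n t

/-- **Extension to the completion**: augmented maps from `T` into an augmented algebra complete for its augmentation ideal
extend to the completion. -/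
theorem exists_extend (hρ : Function.Surjective ρ) {C : Type u} [CommRing C] [Algebra Λ C] (γ : C →ₐ[Λ] k)
    [IsAdicComplete (RingHom.ker γ) C] (φ : T →ₐ[Λ] C) (hφ : γ.comp φ = ρ) :
    ∃ ψ : Cpl ρ →ₐ[Λ] C, ψ.comp (ι ρ) = φ ∧ γ.comp ψ = cplRes ρ hρ := by
  have hle : ∀ n, RingHom.ker ρ ^ n ≤ ((RingHom.ker γ) ^ n).comap φ := map_ker_pow_le ρ γ φ hφ
  let F : ∀ n, Cpl ρ →ₐ[Λ] C ⧸ (RingHom.ker γ) ^ n := fun n =>
    (Ideal.quotientMapₐ ((RingHom.ker γ) ^ n) φ (hle n)).comp
      ((AdicCompletion.evalₐ (RingHom.ker ρ) n).restrictScalars Λ)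
  have hF : ∀ {m n : ℕ} (h : m ≤ n),
      (Ideal.Quotient.factorₐ Λ (Ideal.pow_le_pow_right h)).comp (F n) = F m := by
    intro m n h
    ext x
    obtain ⟨t, ht⟩ := Ideal.Quotient.mk_surjective (AdicCompletion.evalₐ (RingHom.ker ρ) n x)
    have hm : AdicCompletion.evalₐ (RingHom.ker ρ) m x = Ideal.Quotient.mk _ t := by
      obtain ⟨y, rfl⟩ := AdicCompletion.mk_surjective (RingHom.ker ρ) T x
      rw [AdicCompletion.evalₐ_mk] at ht ⊢
      rw [← AdicCompletion.Ideal.mk_eq_mk (RingHom.ker ρ) h y]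
      rw [Ideal.Quotient.eq] at ht ⊢
      have := Ideal.pow_le_pow_right h ht
      rw [← neg_sub]
      exact neg_mem this
    change Ideal.Quotient.factor (Ideal.pow_le_pow_right h)
        (Ideal.quotientMap _ (φ : T →+* C) (hle n) (AdicCompletion.evalₐ (RingHom.ker ρ) n x)) =
      Ideal.quotientMap _ (φ : T →+* C) (hle m) (AdicCompletion.evalₐ (RingHom.ker ρ) m x)
    rw [← ht, hm]
    rfl
  refine ⟨IsAdicComplete.liftAlgHom (RingHom.ker γ) F hF, ?_, ?_⟩
  · ext x
    refine IsHausdorff.eq_iff_smodEq (I := RingHom.ker γ) |>.2 fun n => ?_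
    rw [SModEq.sub_mem, smul_eq_mul, Ideal.mul_top, ← Ideal.Quotient.eq]
    change Ideal.Quotient.mk _ (IsAdicComplete.liftAlgHom (RingHom.ker γ) F hF (ι ρ x)) = _
    rw [IsAdicComplete.mk_liftAlgHom]
    change Ideal.quotientMap _ (φ : T →+* C) (hle n) (AdicCompletion.evalₐ (RingHom.ker ρ) n (ι ρ x)) = _
    have h3 : AdicCompletion.evalₐ (RingHom.ker ρ) n (ι ρ x) = Ideal.Quotient.mk _ x :=
      AdicCompletion.evalₐ_of _ _ _
    rw [h3]
    rfl
  · ext x
    obtain ⟨t, ht⟩ := Ideal.Quotient.mk_surjective (AdicCompletion.evalₐ (RingHom.ker ρ) 1 x)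
    have h1 : Ideal.Quotient.mk _ (IsAdicComplete.liftAlgHom (RingHom.ker γ) F hF x) =
        Ideal.Quotient.mk ((RingHom.ker γ) ^ 1) (φ t) := by
      rw [IsAdicComplete.mk_liftAlgHom]
      change Ideal.quotientMap _ (φ : T →+* C) (hle 1) (AdicCompletion.evalₐ (RingHom.ker ρ) 1 x) = _
      rw [← ht]
      rfl
    rw [Ideal.Quotient.eq, pow_one, RingHom.mem_ker, map_sub, sub_eq_zero] at h1
    change γ (IsAdicComplete.liftAlgHom (RingHom.ker γ) F hF x) = _
    rw [h1]
    have h2 : γ (φ t) = ρ t := DFunLike.congr_fun hφ t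
    rw [h2]
    have h4 : AdicCompletion.evalOneₐ (RingHom.ker ρ) x = Ideal.Quotient.mk _ t := by
      rw [← AdicCompletion.factorₐ_evalₐ_one, ← ht]
      rfl
    change ρ t = Ideal.quotientKerAlgEquivOfSurjective hρ (AdicCompletion.evalOneₐ (RingHom.ker ρ) x)
    rw [h4]
    rfl

/-- Uniqueness of the extension to the completion. -/
theorem extend_unique (hρ : Function.Surjective ρ) (hfg : (RingHom.ker ρ).FG) {C : Type u} [CommRing C] [Algebra Λ C]
    (γ : C →ₐ[Λ] k) [IsHausdorff (RingHom.ker γ) C] (f g : Cpl ρ →ₐ[Λ] C)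
    (hf : γ.comp f = cplRes ρ hρ) (hg : γ.comp g = cplRes ρ hρ) (h : f.comp (ι ρ) = g.comp (ι ρ)) : f = g := by
  refine hom_ext_of_dense (cplRes ρ hρ) γ (ι ρ) (fun n s => ?_) f g hf hg h
  rw [ker_cplRes ρ hρ hfg]
  exact sub_mem_pow ρ hfg n s

end Cpl

section Targets

variable {Λ : Type u} {k : Type u} [CommRing Λ] [Field k] [Algebra Λ k]

lemma ker_res_eq (C : CRing Λ k) : RingHom.ker C.res = IsLocalRing.maximalIdeal C.carrier := by
  ext a
  rw [CRing.mem_maximalIdeal_iff, RingHom.mem_ker]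

lemma art_ker_res_eq (A : Art Λ k) : RingHom.ker A.res = IsLocalRing.maximalIdeal A := by
  ext a
  rw [Art.mem_maximalIdeal_iff, RingHom.mem_ker]

instance isAdicComplete_ker_res (C : CRing Λ k) : IsAdicComplete (RingHom.ker C.res) C.carrier := by
  rw [ker_res_eq]; exact C.isAdicComplete

/-- A ring is complete for a nilpotent ideal. -/
lemma isAdicComplete_of_isNilpotent {A : Type u} [CommRing A] (I : Ideal A) (hI : IsNilpotent I) :
    IsAdicComplete I A := by
  obtain ⟨n, hn⟩ := hI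
  refine { haus' := fun x hx => ?_, prec' := fun f hf => ⟨f n, fun m => ?_⟩ }
  · have := hx n
    rw [hn] at this
    simpa [SModEq.zero] using this
  · rcases le_total m n with h | h
    · exact hf h
    · have := hf h
      rw [hn] at this
      have h2 : f n = f m := by
        have := SModEq.sub_mem.1 this
        simpa [sub_eq_zero] using this
      rw [h2]

instance art_isAdicComplete_ker_res (A : Art Λ k) : IsAdicComplete (RingHom.ker A.res) A := by
  rw [art_ker_res_eq]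
  exact isAdicComplete_of_isNilpotent _
    ((isArtinianRing_iff_isNilpotent_maximalIdeal A).1 A.isArtinianRing)

variable {T : Type u} [CommRing T] [Algebra Λ T] (ρ : T →ₐ[Λ] k)

/-- Augmented maps from the completion to a coefficient ring. -/
theorem existsUnique_extend_cring (hρ : Function.Surjective ρ) (hfg : (RingHom.ker ρ).FG) (C : CRing Λ k)
    (φ : T →ₐ[Λ] C.carrier) (hφ : C.res.comp φ = ρ) :
    ∃! ψ : (cpl ρ hρ hfg).carrier →ₐ[Λ] C.carrier, C.res.comp ψ = (cpl ρ hρ hfg).res ∧ ψ.comp (toCpl ρ hρ hfg) = φ := by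
  obtain ⟨ψ, h1, h2⟩ := exists_extend ρ hρ C.res φ hφ
  refine ⟨ψ, ⟨h2, h1⟩, fun ψ' hψ' => ?_⟩
  exact extend_unique ρ hρ hfg C.res ψ' ψ hψ'.1 h2 (hψ'.2.trans h1.symm)

/-- Augmented maps from the completion to an Artinian object. -/
theorem existsUnique_extend_art (hρ : Function.Surjective ρ) (hfg : (RingHom.ker ρ).FG) (A : Art Λ k)
    (φ : T →ₐ[Λ] A) (hφ : A.res.comp φ = ρ) :
    ∃! ψ : (cpl ρ hρ hfg).carrier →ₐ[Λ] A, A.res.comp ψ = (cpl ρ hρ hfg).res ∧ ψ.comp (toCpl ρ hρ hfg) = φ := by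
  obtain ⟨ψ, h1, h2⟩ := exists_extend ρ hρ A.res φ hφ
  refine ⟨ψ, ⟨h2, h1⟩, fun ψ' hψ' => ?_⟩
  exact extend_unique ρ hρ hfg A.res ψ' ψ hψ'.1 h2 (hψ'.2.trans h1.symm)

/-- Restriction along `T → T^` is a bijection on augmented maps to Artinian objects. -/
theorem bijective_restrict_art (hρ : Function.Surjective ρ) (hfg : (RingHom.ker ρ).FG) (A : Art Λ k) :
    Function.Bijective (fun φ : HomSet (cpl ρ hρ hfg).carrier (cpl ρ hρ hfg).res A =>
      (⟨φ.1.comp (toCpl ρ hρ hfg), by rw [← AlgHom.comp_assoc, φ.2, res_comp_toCpl]⟩ : HomSet T ρ A)) := by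
  constructor
  · intro φ ψ h
    exact Subtype.ext (extend_unique ρ hρ hfg A.res φ.1 ψ.1 φ.2 ψ.2 (congrArg Subtype.val h))
  · intro φ
    obtain ⟨ψ, ⟨h2, h1⟩, -⟩ := existsUnique_extend_art ρ hρ hfg A φ.1 φ.2
    exact ⟨⟨ψ, h2⟩, Subtype.ext h1⟩

end Targets

end K725.Completion
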