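import Groth.Agent.ArtFun.K725.Completion
import Mathlib.RingTheory.TensorProduct.Basic
import Mathlib.LinearAlgebra.TensorProduct.RightExactness
import Mathlib.RingTheory.Finiteness.Ideal
import Mathlib.RingTheory.TensorProduct.Finite

/-!
# Pushouts and coproducts of coefficient rings
-/

set_option autoImplicit false
set_option linter.style.haveILetI false
set_option linter.unusedSectionVars false

universe u v

open CategoryTheory
open scoped TensorProduct

namespace K725.Coprod

open ArtFun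

variable {Λ : Type u} {k : Type u} [CommRing Λ] [Field k] [Algebra Λ k]

/-- The augmentation of `R ⊗ S`. -/
noncomputable def aug (R S : CRing Λ k) : R.carrier ⊗[Λ] S.carrier →ₐ[Λ] k :=
  Algebra.TensorProduct.lift R.res S.res (fun _ _ => Commute.all _ _)

lemma aug_tmul (R S : CRing Λ k) (r : R.carrier) (s : S.carrier) : aug R S (r ⊗ₜ s) = R.res r * S.res s := by
  simp [aug]

lemma aug_surjective (R S : CRing Λ k) : Function.Surjective (aug R S) := by
  intro c
  obtain ⟨r, hr⟩ := R.res_surjective c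
  exact ⟨r ⊗ₜ 1, by rw [aug_tmul, hr, map_one, mul_one]⟩

lemma ker_res_fg (R : CRing Λ k) : (RingHom.ker R.res).FG := by
  rw [Completion.ker_res_eq]
  exact (IsLocalRing.maximalIdeal R.carrier).fg_of_isNoetherianRing

lemma aug_ker_fg [Module.Finite Λ k] (R S : CRing Λ k) : (RingHom.ker (aug R S)).FG := by
  have h1 : aug R S = (Algebra.TensorProduct.lift (AlgHom.id Λ k) (AlgHom.id Λ k) (fun _ _ => Commute.all _ _)).comp
      (Algebra.TensorProduct.map R.res S.res) := by
    ext x <;> simp [aug]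
  have h2 : (RingHom.ker (Algebra.TensorProduct.map R.res S.res)).FG := by
    rw [Algebra.TensorProduct.map_ker _ _ R.res_surjective S.res_surjective]
    exact Submodule.FG.sup ((ker_res_fg R).map _) ((ker_res_fg S).map _)
  haveI : IsNoetherianRing (k ⊗[Λ] k) := IsNoetherianRing.of_finite k _
  have h3 : (RingHom.ker (Algebra.TensorProduct.lift (AlgHom.id Λ k) (AlgHom.id Λ k)
      (fun _ _ => Commute.all _ _) : k ⊗[Λ] k →ₐ[Λ] k)).FG := IsNoetherian.noetherian _
  rw [h1]
  exact Ideal.fg_ker_comp (Algebra.TensorProduct.map R.res S.res : R.carrier ⊗[Λ] S.carrier →+* k ⊗[Λ] k)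
    (Algebra.TensorProduct.lift (AlgHom.id Λ k) (AlgHom.id Λ k) (fun _ _ => Commute.all _ _) : k ⊗[Λ] k →+* k) h2 h3
    (TensorProduct.map_surjective R.res_surjective S.res_surjective)

section Quot

variable [Module.Finite Λ k] (R S : CRing Λ k) (J : Ideal (R.carrier ⊗[Λ] S.carrier)) (hJ : J ≤ RingHom.ker (aug R S))

/-- The augmentation of `(R ⊗ S)/J`. -/
noncomputable def augQ : (R.carrier ⊗[Λ] S.carrier) ⧸ J →ₐ[Λ] k :=
  Ideal.Quotient.liftₐ J (aug R S) (fun _ ha => hJ ha)

lemma augQ_mk (x : R.carrier ⊗[Λ] S.carrier) : augQ R S J hJ (Ideal.Quotient.mk J x) = aug R S x := rfl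

lemma augQ_surjective : Function.Surjective (augQ R S J hJ) := by
  intro c
  obtain ⟨x, hx⟩ := aug_surjective R S c
  exact ⟨Ideal.Quotient.mk J x, hx⟩

lemma augQ_ker_fg : (RingHom.ker (augQ R S J hJ)).FG := by
  have h : RingHom.ker (augQ R S J hJ) = (RingHom.ker (aug R S)).map (Ideal.Quotient.mk J) := by
    ext x
    obtain ⟨y, rfl⟩ := Ideal.Quotient.mk_surjective x
    rw [RingHom.mem_ker, augQ_mk]
    constructor
    · intro h
      exact Ideal.mem_map_of_mem _ h
    · intro h
      rw [Ideal.mem_map_iff_of_surjective _ Ideal.Quotient.mk_surjective] at h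
      obtain ⟨z, hz, hzy⟩ := h
      rw [← augQ_mk R S J hJ, ← hzy, augQ_mk]
      exact hz
  rw [h]
  exact (aug_ker_fg R S).map _

include hJ in
/-- **Universal property of the completed quotient of the tensor product.** -/
theorem exists_universal :
    ∃ (P : CRing Λ k) (i₁ : R.carrier →ₐ[Λ] P.carrier) (i₂ : S.carrier →ₐ[Λ] P.carrier),
      P.res.comp i₁ = R.res ∧ P.res.comp i₂ = S.res ∧
      J ≤ RingHom.ker (Algebra.TensorProduct.lift i₁ i₂ (fun _ _ => Commute.all _ _)) ∧
      ∀ (T : CRing Λ k) (g₁ : R.carrier →ₐ[Λ] T.carrier) (g₂ : S.carrier →ₐ[Λ] T.carrier),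
        T.res.comp g₁ = R.res → T.res.comp g₂ = S.res →
        J ≤ RingHom.ker (Algebra.TensorProduct.lift g₁ g₂ (fun _ _ => Commute.all _ _)) →
          ∃! h : P.carrier →ₐ[Λ] T.carrier, T.res.comp h = P.res ∧ h.comp i₁ = g₁ ∧ h.comp i₂ = g₂ := by
  have hs := augQ_surjective R S J hJ
  have hf := augQ_ker_fg R S J hJ
  let q : R.carrier ⊗[Λ] S.carrier →ₐ[Λ] (R.carrier ⊗[Λ] S.carrier) ⧸ J := Ideal.Quotient.mkₐ Λ J
  let t := Completion.toCpl (augQ R S J hJ) hs hf
  have htr := Completion.res_comp_toCpl (augQ R S J hJ) hs hf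
  let i₁ : R.carrier →ₐ[Λ] (Completion.cpl (augQ R S J hJ) hs hf).carrier :=
    (t.comp q).comp Algebra.TensorProduct.includeLeft
  let i₂ : S.carrier →ₐ[Λ] (Completion.cpl (augQ R S J hJ) hs hf).carrier :=
    (t.comp q).comp Algebra.TensorProduct.includeRight
  have hi : Algebra.TensorProduct.lift i₁ i₂ (fun _ _ => Commute.all _ _) = t.comp q := by
    ext x <;> simp [i₁, i₂]
  refine ⟨Completion.cpl (augQ R S J hJ) hs hf, i₁, i₂, ?_, ?_, ?_, ?_⟩
  · ext x
    have := DFunLike.congr_fun htr (q (x ⊗ₜ 1))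
    refine this.trans ?_
    change aug R S (x ⊗ₜ 1) = _
    rw [aug_tmul, map_one, mul_one]
  · ext x
    have := DFunLike.congr_fun htr (q (1 ⊗ₜ x))
    refine this.trans ?_
    change aug R S (1 ⊗ₜ x) = _
    rw [aug_tmul, map_one, one_mul]
  · rw [hi]
    intro x hx
    rw [RingHom.mem_ker]
    change t (Ideal.Quotient.mk J x) = 0
    rw [Ideal.Quotient.eq_zero_iff_mem.2 hx, map_zero]
  · intro T g₁ g₂ h₁ h₂ hJg
    let φ : (R.carrier ⊗[Λ] S.carrier) ⧸ J →ₐ[Λ] T.carrier :=
      Ideal.Quotient.liftₐ J (Algebra.TensorProduct.lift g₁ g₂ (fun _ _ => Commute.all _ _)) (fun _ ha => hJg ha)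
    have hφ : T.res.comp φ = augQ R S J hJ := by
      apply Ideal.Quotient.algHom_ext
      ext x
      · have := DFunLike.congr_fun h₁ x
        simpa [φ, augQ, aug] using this
      · have := DFunLike.congr_fun h₂ x
        simpa [φ, augQ, aug] using this
    obtain ⟨ψ, ⟨hψ1, hψ2⟩, huniq⟩ := Completion.existsUnique_extend_cring (augQ R S J hJ) hs hf T φ hφ
    refine ⟨ψ, ⟨hψ1, ?_, ?_⟩, ?_⟩
    · ext x
      have := DFunLike.congr_fun hψ2 (q (x ⊗ₜ 1))
      refine this.trans ?_
      change Algebra.TensorProduct.lift g₁ g₂ (fun _ _ => Commute.all _ _) (x ⊗ₜ 1) = _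
      simp
    · ext x
      have := DFunLike.congr_fun hψ2 (q (1 ⊗ₜ x))
      refine this.trans ?_
      change Algebra.TensorProduct.lift g₁ g₂ (fun _ _ => Commute.all _ _) (1 ⊗ₜ x) = _
      simp
    · rintro ψ' ⟨a, b, c⟩
      refine huniq ψ' ⟨a, ?_⟩
      apply Ideal.Quotient.algHom_ext
      ext x
      · have := DFunLike.congr_fun b x
        refine this.trans ?_
        simp [φ]
      · have := DFunLike.congr_fun c x
        refine this.trans ?_
        simp [φ]

end Quot

end K725.Coprod
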