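import Groth.Agent.SGA7.K565.DefCat
import Groth.Agent.ArtFun.K723.SmallExt
import Groth.Agent.DefT.K569.VBLift
import Groth.Agent.Deform.K185.DefLift
import Groth.Agent.CurvSt.K903.ExtVB
import Groth.Agent.Lefpen.H721.OmegaSec
import Groth.Agent.PerfB.FlatPull
import Groth.Agent.S11765
import Groth.Agent.S1313
import Groth.Prelude.Def_ArtFun6

/-!
# Deformations of a closed subscheme are embedded when `Ext¹(i^* Ω_X, O) = 0`

* `exists_map`: `X` smooth and separated over `k`, `i₀ : Y₀ ⟶ X` any morphism with `Ext¹(i₀^* Ω_X, O) = 0`: every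
  deformation of `Y₀` over an Artinian algebra maps to `X` compatibly with `i₀`;
* `exists_localHilb`: for a closed immersion, every deformation comes from the local Hilbert functor.
-/

set_option autoImplicit false

universe u

open CategoryTheory CategoryTheory.Limits AlgebraicGeometry

namespace K725.EmbDef

open Groth.Agent ArtFun ArtFun.Art K565.DefCat

theorem ideal_ker_of_isPullback {A B : Type u} [CommRing A] [CommRing B] (φ : B →+* A) (hφ : Function.Surjective φ)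
    {T T' : Scheme.{u}} {f : T ⟶ Spec (CommRingCat.of B)} {j : T' ⟶ T} {f' : T' ⟶ Spec (CommRingCat.of A)}
    (h : IsPullback j f' f (Spec.map (CommRingCat.ofHom φ))) (U : T.affineOpens) :
    let _ : T.Over (Spec (CommRingCat.of B)) := ⟨f⟩
    j.ker.ideal U = (RingHom.ker φ).map (FormalB.ModPowAff.toΓ B T U.1) := by
  have hcl : IsClosedImmersion (Spec.map (CommRingCat.ofHom φ)) := IsClosedImmersion.spec_of_surjective _ hφ
  let _ : T.Over (Spec (CommRingCat.of B)) := ⟨f⟩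
  have h1 : j.ker = (pullback.fst f (Spec.map (CommRingCat.ofHom φ))).ker := by
    rw [← h.isoPullback_hom_fst, Scheme.Hom.ker_comp_of_isIso]
  rw [h1, Scheme.IdealSheafData.ker_fst_of_isClosedImmersion,
    Groth.Agent.Divis.IdealComap.ideal_comap _ f ⟨⊤, isAffineOpen_top _⟩ U (fun _ _ => trivial),
    K695.ClFib.ker_specMap_ideal, Ideal.map_map]
  rfl

variable {k : Type u} [Field k] {X : Scheme.{u}} (x : X ⟶ specPt k) {Y₀ : Scheme.{u}} (i₀ : Y₀ ⟶ X)

/-- The deformation maps to `X`, compatibly with `i₀`. -/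
def HasMap {A : Art k k} (ξ : DefSch Y₀ (i₀ ≫ x) A) : Prop :=
  ∃ g : ξ.total ⟶ X, ξ.i ≫ g = i₀ ∧ g ≫ x = ξ.f ≫ specOver A

variable {x i₀}

theorem HasMap.of_iso {A : Art k k} {ξ ξ' : DefSch Y₀ (i₀ ≫ x) A} (h : HasMap x i₀ ξ) (e : ξ'.Iso ξ) :
    HasMap x i₀ ξ' := by
  obtain ⟨g, h1, h2⟩ := h
  refine ⟨e.iso.hom ≫ g, ?_, ?_⟩
  · rw [← Category.assoc, e.i_hom, h1]
  · rw [Category.assoc, h2, ← Category.assoc, e.hom_f]

theorem HasMap.of_isIso {B A : Art k k} {p : B ⟶ A} (hp : IsIso p) {η : DefSch Y₀ (i₀ ≫ x) B}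
    {ξ : DefSch Y₀ (i₀ ≫ x) A} (b : BC η p ξ) (h : HasMap x i₀ ξ) : HasMap x i₀ η := by
  obtain ⟨g, h1, h2⟩ := h
  have hs : IsIso (specMap p) := by
    refine ⟨specMap (inv p), ?_, ?_⟩
    · rw [← specMap_comp, IsIso.inv_hom_id, specMap_id]
    · rw [← specMap_comp, IsIso.hom_inv_id, specMap_id]
  have ht : IsIso b.t := b.isPullback.isIso_fst_of_isIso
  refine ⟨inv b.t ≫ g, ?_, ?_⟩
  · rw [← b.i_t, Category.assoc, IsIso.hom_inv_id_assoc, h1]
  · rw [Category.assoc, h2, IsIso.inv_comp_eq, ← Category.assoc, b.isPullback.w, Category.assoc, specOver_comp]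

theorem h_iso (hx : Smooth x) (hxs : IsSeparated x) [HasExt.{u} Y₀.Modules]
    (h1 : Subsingleton (Abelian.Ext.{u} ((Scheme.Modules.pullback i₀).obj (Omega.sheaf x))
      (Coh.structureModule Y₀) 1)) {Z : Scheme.{u}} (i₁ : Y₀ ⟶ Z) (g : Z ⟶ X) (h : i₁ ≫ g = i₀)
    [DCoh.HasSheafHom ((Scheme.Modules.pullback i₁).obj ((Scheme.Modules.pullback g).obj (Omega.sheaf x)))] :
    Subsingleton (Coh.HH Y₀ ((DCoh.sheafHom ((Scheme.Modules.pullback i₁).obj
      ((Scheme.Modules.pullback g).obj (Omega.sheaf x)))).obj (Coh.structureModule Y₀)) 1) := by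
  have hΩ := Groth.Agent.Lefpen.H721.OmegaSec.isFinLocFree_omega x
  have hE := PerfB.FlatPull.isFinLocFree_pullback i₀ hΩ
  let _ : Y₀.Over (Spec (CommRingCat.of k)) := ⟨i₀ ≫ x⟩
  have h2 : Subsingleton (Coh.HH Y₀ (CohqB.HomSheaf.homSheaf ((Scheme.Modules.pullback i₀).obj (Omega.sheaf x))
      (Coh.structureModule Y₀)) 1) :=
    (K903.ExtVB.extVB k hE (Coh.structureModule Y₀) 1).toEquiv.subsingleton_congr.1 h1
  subst h
  let e : (Scheme.Modules.pullback (i₁ ≫ g)).obj (Omega.sheaf x) ≅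
      (Scheme.Modules.pullback i₁).obj ((Scheme.Modules.pullback g).obj (Omega.sheaf x)) :=
    ((Scheme.Modules.pullbackComp i₁ g).app _).symm
  have hsh : DCoh.HasSheafHom ((Scheme.Modules.pullback (i₁ ≫ g)).obj (Omega.sheaf x)) :=
    Sga2.PnHomAdj.hasSheafHom _
  exact Groth.Agent.CohqA.DirectSum.subsingleton_of_iso
    (((Groth.Agent.Sga2.PnHomAdj.sheafHomIso _).app (Coh.structureModule Y₀)).symm ≪≫
      (K569.DefT.VBLift.sheafHomCongr e).app (Coh.structureModule Y₀)) 1 h2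

/-- One semismall extension. -/
theorem step (hx : Smooth x) (hxs : IsSeparated x) [HasExt.{u} Y₀.Modules]
    (h1 : Subsingleton (Abelian.Ext.{u} ((Scheme.Modules.pullback i₀).obj (Omega.sheaf x))
      (Coh.structureModule Y₀) 1))
    {B A : Art k k} {p : B ⟶ A} (hp : IsSemismallExt p) {η : DefSch Y₀ (i₀ ≫ x) B}
    {ξ : DefSch Y₀ (i₀ ≫ x) A} (b : BC η p ξ) (h : HasMap x i₀ ξ) : HasMap x i₀ η := by
  obtain ⟨g, hg1, hg2⟩ := h
  let T := η.total
  let _ : T.Over (Spec (CommRingCat.of B)) := ⟨η.f⟩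
  have hfl : Flat (T ↘ Spec (CommRingCat.of B)) := η.flat
  have hcl : IsClosedImmersion (specMap p) := IsClosedImmersion.spec_of_surjective _ hp.1
  have hclt : IsClosedImmersion b.t := MorphismProperty.of_isPullback b.isPullback.flip hcl
  have hcli : IsClosedImmersion η.i := K185.DefLift.isClosedImmersion_i η
  let 𝒦 : T.IdealSheafData := b.t.ker
  let K : Ideal B := RingHom.ker p.toAlgHom.toRingHom
  let I : Ideal B := IsLocalRing.maximalIdeal B
  have hIK : I * K = ⊥ := hp.2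
  have hK : ∀ U : T.affineOpens, 𝒦.ideal U = K.map (FormalB.ModPowAff.toΓ B T U.1) := fun U =>
    ideal_ker_of_isPullback p.toAlgHom.toRingHom hp.1 b.isPullback U
  have hres : RingHom.ker B.res.toRingHom = I := by
    ext a
    exact (B.mem_maximalIdeal_iff a).symm
  have hi : ∀ U : T.affineOpens, η.i.ker.ideal U = I.map (FormalB.ModPowAff.toΓ B T U.1) := fun U => by
    rw [← hres]
    exact ideal_ker_of_isPullback B.res.toRingHom B.res_surjective η.isPullback U
  have hKle : K ≤ I := fun c hc => by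
    rw [B.mem_maximalIdeal_iff, ← Art.res_app p c]
    exact (congrArg A.res (show p c = 0 from hc)).trans (map_zero _)
  have h2 : 𝒦 ^ 2 = ⊥ := by
    refine Scheme.IdealSheafData.ext (funext fun U => ?_)
    rw [Scheme.IdealSheafData.ideal_pow, Pi.pow_apply, hK U, ← Ideal.map_pow]
    have h3 : K ^ 2 = ⊥ := by
      rw [pow_two, eq_bot_iff, ← hIK]
      exact Ideal.mul_mono_left hKle
    rw [h3, Ideal.map_bot]
    rfl
  -- the isomorphism with the closed subscheme
  have hk : 𝒦.subschemeι.ker = 𝒦 := 𝒦.ker_subschemeι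
  let e : ξ.total ⟶ 𝒦.subscheme := IsClosedImmersion.lift 𝒦.subschemeι b.t hk.le
  have he : IsIso e := IsClosedImmersion.isIso_lift _ _ hk
  have hfac : e ≫ 𝒦.subschemeι = b.t := IsClosedImmersion.lift_fac _ _ _
  let i₁ : Y₀ ⟶ 𝒦.subscheme := ξ.i ≫ e
  have hi₁ : i₁ ≫ 𝒦.subschemeι = η.i := by rw [Category.assoc, hfac, b.i_t]
  have hcl₁ : IsClosedImmersion i₁ := by
    have : IsClosedImmersion (i₁ ≫ 𝒦.subschemeι) := by rw [hi₁]; infer_instance
    exact IsClosedImmersion.of_comp i₁ 𝒦.subschemeι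
  let g₁ : 𝒦.subscheme ⟶ X := inv e ≫ g
  have hg₁ : g₁ ≫ x = 𝒦.subschemeι ≫ (η.f ≫ specOver B) := by
    rw [Category.assoc, IsIso.inv_comp_eq, hg2, ← Category.assoc e, hfac, ← Category.assoc, b.isPullback.w,
      Category.assoc, specOver_comp]
  have hi₁g : i₁ ≫ g₁ = i₀ := by
    rw [Category.assoc, IsIso.hom_inv_id_assoc, hg1]
  have hExt : HasExt.{u} 𝒦.subscheme.Modules := hasExt_of_enoughInjectives _
  have hΩ := Groth.Agent.Lefpen.H721.OmegaSec.isFinLocFree_omega x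
  have hF := PerfB.FlatPull.isFinLocFree_pullback g₁ hΩ
  have hfg : K.FG := (isNoetherianRing_iff_ideal_fg B).1 inferInstance K
  obtain ⟨r, ⟨q⟩⟩ := K569.DefT.VBLift.exists_pb_iso I K hIK hfg 𝒦 hK η.i hi i₁ hi₁
  let _ : 𝒦.subscheme.Over (Spec (CommRingCat.of k)) := ⟨g₁ ≫ x⟩
  have hext : Subsingleton (Abelian.Ext.{u} ((Scheme.Modules.pullback g₁).obj (Omega.sheaf x))
      ((Scheme.Modules.pullback 𝒦.subschemeι).obj (ClSub.idealMod 𝒦)) 1) := by
    refine K695.ExtSplit.subsingleton_ext_of_iso_right q.symm 1 ?_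
    refine K569.DefT.VBLift.subsingleton_ext_biproduct _ _ _ fun _ => ?_
    have hsh : DCoh.HasSheafHom ((Scheme.Modules.pullback i₁).obj
      ((Scheme.Modules.pullback g₁).obj (Omega.sheaf x))) := Sga2.PnHomAdj.hasSheafHom _
    exact K569.DefT.LFExt.subsingleton_ext i₁ k hF _ 1 (h_iso hx hxs h1 i₁ g₁ hi₁g)
  obtain ⟨h, hh1, hh2⟩ := S11765.result (η.f ≫ specOver B) x 𝒦 h2 g₁ hg₁ hext
  refine ⟨h, ?_, hh2⟩
  rw [← hi₁, Category.assoc, hh1, hi₁g]

/-- Every deformation maps to `X`. -/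
theorem exists_map (hx : Smooth x) (hxs : IsSeparated x) [HasExt.{u} Y₀.Modules]
    (h1 : Subsingleton (Abelian.Ext.{u} ((Scheme.Modules.pullback i₀).obj (Omega.sheaf x))
      (Coh.structureModule Y₀) 1)) {B : Art k k} (η : DefSch Y₀ (i₀ ≫ x) B) : HasMap x i₀ η := by
  have key := K723.SmallExt.surjective_induction (Λ := k) (k := k)
    (P := fun A B (p : B ⟶ A) => ∀ (η : DefSch Y₀ (i₀ ≫ x) B) (ξ : DefSch Y₀ (i₀ ≫ x) A), BC η p ξ →
      HasMap x i₀ ξ → HasMap x i₀ η)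
    (fun A B e he η ξ b h => h.of_isIso he b)
    (fun A B p hp η ξ b h => step hx hxs h1 hp.isSemismallExt b h)
    (fun A B C p q hp hq η ζ b h => by
      obtain ⟨e, -⟩ := b.exists_iso ((BC.canonical η p).comp (BC.canonical (η.baseChange p) q))
      exact hp _ _ (BC.canonical η p) (hq _ _ (BC.canonical (η.baseChange p) q) (h.of_iso e.symm)))
    (toBase B) B.res_surjective
  refine key η _ (BC.canonical η _) ?_
  have hi := isIso_i (η.baseChange (toBase B))
  refine ⟨inv (η.baseChange (toBase B)).i ≫ i₀, by rw [IsIso.hom_inv_id_assoc], ?_⟩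
  rw [Category.assoc, IsIso.inv_comp_eq, ← Category.assoc, DefSch.i_f, Category.assoc]
  refine (comp_specRes_base (Λ := k) (i₀ ≫ x)).symm.trans ?_
  exact congrArg ((i₀ ≫ x) ≫ ·) (specRes_comp (ofBase (base k k))).symm

end K725.EmbDef
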