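import Groth.Agent.ArtFun.K725.EmbDef

/-!
# Embedded deformations and the local Hilbert functor

* `exists_localHilb_of_map`: a deformation of `Y₀ ⊆ X` with a compatible map to `X` comes from the local Hilbert functor;
* `bcObjectOf`: the transition maps of the local Hilbert functor are base changes of deformations;
* `isSmoothFunctor`: if all deformations are embedded and the local Hilbert functor is smooth, so is the deformation
  functor.
-/

set_option autoImplicit false

universe u

open CategoryTheory CategoryTheory.Limits AlgebraicGeometry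

namespace K725.EmbHilb

open Groth.Agent ArtFun ArtFun.Art K565.DefCat K725.EmbDef

variable {k : Type u} [Field k] {X : Scheme.{u}} {x : X ⟶ specPt k} {I₀ : X.IdealSheafData}

theorem isThickening_XAincl (A : Art k k) : MoreMor.IsThickening (XAincl x A) := by
  have h := (K185.DefLift.isFiniteOrderThickening_specRes A).1
  exact ⟨MorphismProperty.of_isPullback (P := @IsClosedImmersion) (isPullback_XAincl x A).flip h.1,
    MorphismProperty.of_isPullback (P := @Surjective) (isPullback_XAincl x A).flip h.2⟩

/-- A deformation of a closed subscheme of `X` with a compatible map to `X` is embedded. -/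
theorem exists_localHilb_of_map [LocallyOfFiniteType x] {A : Art k k}
    (ξ : DefSch I₀.subscheme (subOver x I₀) A) (h : HasMap x I₀.subschemeι ξ) :
    ∃ I : (localHilb X x I₀).obj A, Nonempty (DefSch.Iso (objectOf I) ξ) := by
  obtain ⟨g, hg1, hg2⟩ := h
  let G : ξ.total ⟶ XA x A := pullback.lift g ξ.f hg2
  have hG1 : G ≫ pullback.fst _ _ = g := pullback.lift_fst _ _ _
  have hG2 : G ≫ XApr x A = ξ.f := pullback.lift_snd _ _ _
  have hi : ξ.i ≫ G = I₀.subschemeι ≫ XAincl x A := by
    apply pullback.hom_ext
    · rw [Category.assoc, hG1, hg1, Category.assoc, XAincl_fst, Category.comp_id]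
    · rw [Category.assoc]
      refine (congrArg (ξ.i ≫ ·) hG2).trans (ξ.i_f.trans ?_)
      rw [Category.assoc, Category.assoc]
      exact congrArg (I₀.subschemeι ≫ ·) (XAincl_snd x A).symm
  have hc : IsPullback ξ.i I₀.subschemeι G (XAincl x A) := by
    refine IsPullback.of_bot (h₃₁ := specRes A) (v₂₁ := x) (v₂₂ := XApr x A) ?_ hi (isPullback_XAincl x A)
    rw [hG2]
    exact ξ.isPullback
  have hft : LocallyOfFiniteType ξ.f := K185.DefLift.locallyOfFiniteType ξ
  have hGft : LocallyOfFiniteType G := by
    have : LocallyOfFiniteType (G ≫ XApr x A) := by rw [hG2]; exact hft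
    exact locallyOfFiniteType_of_comp G (XApr x A)
  have hGcl : IsClosedImmersion G :=
    (S1313.result ξ.i (XAincl x A) I₀.subschemeι G (isThickening_XAincl A) hc).1 inferInstance
  have hk : G.ker.subschemeι.ker = G.ker := G.ker.ker_subschemeι
  let e : ξ.total ⟶ G.ker.subscheme := IsClosedImmersion.lift G.ker.subschemeι G hk.le
  have he : IsIso e := IsClosedImmersion.isIso_lift _ _ hk
  have hfac : e ≫ G.ker.subschemeι = G := IsClosedImmersion.lift_fac _ _ _
  have hfac' : inv e ≫ G = G.ker.subschemeι := by rw [IsIso.inv_comp_eq, hfac]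
  have hflat : FlatOver X x A G.ker := by
    have h1 : Flat (inv e ≫ ξ.f) := inferInstance
    rw [← hG2, ← Category.assoc, hfac'] at h1
    exact h1
  have hcomap : G.ker.comap (XAincl x A) = I₀ := by
    rw [← Scheme.IdealSheafData.ker_fst_of_isClosedImmersion, ← hc.flip.isoPullback_inv_fst,
      Scheme.Hom.ker_comp_of_isIso, Scheme.IdealSheafData.ker_subschemeι]
  let I : (localHilb X x I₀).obj A := ⟨G.ker, hflat, hcomap⟩
  refine ⟨I, ⟨isoOfMorphism (η := objectOf I) (η' := ξ) (asIso e).inv ?_ ?_⟩⟩
  · change inv e ≫ ξ.f = G.ker.subschemeι ≫ XApr x A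
    rw [← hG2, ← Category.assoc, hfac']
  · rw [← cancel_mono G, hi]
    refine Eq.trans ?_ (objectOf_i_compat I)
    refine (Category.assoc _ _ _).trans ?_
    exact congrArg ((objectOf I).i ≫ ·) hfac'

theorem isPullback_comap {B A : Art k k} (p : B ⟶ A) (J : (XA x B).IdealSheafData) :
    IsPullback ((J.comapIso (XAmap x p)).hom ≫ pullback.snd _ _) ((J.comap (XAmap x p)).subschemeι ≫ XApr x A)
      (J.subschemeι ≫ XApr x B) (specMap p) := by
  have sq : IsPullback (pullback.snd (XAmap x p) J.subschemeι)
      (pullback.fst (XAmap x p) J.subschemeι ≫ XApr x A) (J.subschemeι ≫ XApr x B) (specMap p) :=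
    IsPullback.paste_vert (IsPullback.of_hasPullback (XAmap x p) J.subschemeι).flip (isPullback_XAmap x p)
  refine sq.of_iso (J.comapIso (XAmap x p)).symm (Iso.refl _) (Iso.refl _) (Iso.refl _) ?_ ?_ ?_ ?_
  · rw [Iso.refl_hom, Category.comp_id, Iso.symm_hom, Iso.inv_hom_id_assoc]
  · rw [Iso.refl_hom, Category.comp_id, Iso.symm_hom, Scheme.IdealSheafData.comapIso_inv_subschemeι_assoc]
  · rw [Iso.refl_hom, Iso.refl_hom, Category.comp_id, Category.id_comp]
  · rw [Iso.refl_hom, Iso.refl_hom, Category.comp_id, Category.id_comp]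

/-- The transition maps of the local Hilbert functor are base changes of deformations. -/
noncomputable def bcObjectOf {B A : Art k k} (p : B ⟶ A) (I : (localHilb X x I₀).obj B) :
    BC (objectOf I) p (objectOf ((localHilb X x I₀).map p I)) where
  t := (I.1.comapIso (XAmap x p)).hom ≫ pullback.snd _ _
  isPullback := isPullback_comap p I.1
  i_t := by
    have h0 : Mono I.1.subschemeι := inferInstance
    refine h0.right_cancellation _ _ ?_
    refine Eq.trans ?_ (objectOf_i_compat I).symm
    have h1 : ((I.1.comapIso (XAmap x p)).hom ≫ pullback.snd _ _) ≫ I.1.subschemeι =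
        (I.1.comap (XAmap x p)).subschemeι ≫ XAmap x p := by
      rw [Category.assoc, ← pullback.condition, Scheme.IdealSheafData.comapIso_hom_fst_assoc]
    refine (Category.assoc _ _ _).trans ((congrArg
      ((objectOf ((localHilb X x I₀).map p I)).i ≫ ·) h1).trans ?_)
    refine (Category.assoc _ _ _).symm.trans ?_
    refine (congrArg (· ≫ XAmap x p) (objectOf_i_compat ((localHilb X x I₀).map p I))).trans ?_
    refine (Category.assoc _ _ _).trans ?_
    rw [XAincl_XAmap]

/-- All deformations embedded and local Hilbert functor smooth imply deformation functor smooth. -/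
theorem isSmoothFunctor (h1 : ∀ {A : Art k k} (ξ : DefSch I₀.subscheme (subOver x I₀) A),
      ∃ I : (localHilb X x I₀).obj A, Nonempty (DefSch.Iso (objectOf I) ξ))
    (h2 : ∀ {B A : Art k k} (p : B ⟶ A), Function.Surjective p → Function.Surjective ((localHilb X x I₀).map p)) :
    IsSmoothFunctor (defFunctor (Λ := k) I₀.subscheme (subOver x I₀)) := by
  intro B A p hp z
  obtain ⟨ξ, rfl⟩ := exists_rep z
  obtain ⟨I, ⟨e⟩⟩ := h1 ξ
  obtain ⟨J, rfl⟩ := h2 p hp I
  exact ⟨(objectOf J).cl, map_cl_eq_iff.2 ⟨(bcObjectOf p J).ofIso e.symm⟩⟩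

end K725.EmbHilb
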