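import Groth.Agent.ArtFun.K725.Tangent
import Groth.Agent.ArtFun.K724.Basic
import Groth.Agent.ArtFun.K724.Deriv
import Mathlib.RingTheory.Kaehler.Basic
import Mathlib.LinearAlgebra.Dual.Lemmas

/-!
# Essential surjections in `Art Λ k`
-/

set_option autoImplicit false
set_option linter.style.haveILetI false
set_option linter.unusedSectionVars false

universe u v

open CategoryTheory
open scoped TensorProduct

namespace K725.Essential

open ArtFun ArtFun.Art K724.Basic

variable {Λ : Type u} {k : Type u} [CommRing Λ] [Field k] [Algebra Λ k]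

/-- A subalgebra of an object surjecting onto the residue field is an object. -/
theorem exists_subobject [IsNoetherianRing Λ] [Module.Finite Λ k] (B : Art Λ k) (C : Subalgebra Λ B)
    (hC : ∀ c : k, ∃ b ∈ C, B.res b = c) : ∃ (C' : Art Λ k) (i : C' ⟶ B), ∀ b : B, b ∈ C ↔ ∃ c : C', i c = b := by
  haveI := moduleFinite B
  haveI : Module.Finite Λ C := Module.Finite.of_injective C.val.toLinearMap Subtype.val_injective
  haveI : IsNoetherianRing C := isNoetherian_of_isNoetherianRing_of_finite Λ _ |> fun h =>
    isNoetherian_of_tower Λ h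
  have hres : Function.Surjective (B.res.comp C.val) := by
    intro c
    obtain ⟨b, hb, hbc⟩ := hC c
    exact ⟨⟨b, hb⟩, hbc⟩
  have hnil : ∀ s : C, (B.res.comp C.val) s = 0 → IsNilpotent s := by
    intro s hs
    obtain ⟨n, hn⟩ := isNilpotent_of_res_eq_zero B _ hs
    exact ⟨n, Subtype.ext hn⟩
  refine ⟨mkObj C (B.res.comp C.val) hres hnil, ⟨C.val, rfl⟩, fun b => ?_⟩
  constructor
  · intro hb
    exact ⟨⟨b, hb⟩, rfl⟩
  · rintro ⟨c, rfl⟩
    exact (c : C).2

/-- Essential surjections. -/
def IsEssential {A B : Art Λ k} (f : B ⟶ A) : Prop :=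
  Function.Surjective f ∧ ∀ (C : Art Λ k) (g : C ⟶ B), Function.Surjective (g ≫ f) → Function.Surjective g

/-- Point derivations (unbundled) of an augmented algebra with values in `k`. -/
def derSub {S : Type u} [CommRing S] [Algebra Λ S] (γ : S →ₐ[Λ] k) : Submodule k (S → k) where
  carrier := {D | (∀ x y, D (x + y) = D x + D y) ∧ (∀ x y, D (x * y) = γ x * D y + γ y * D x) ∧
    ∀ r : Λ, D (algebraMap Λ S r) = 0}
  zero_mem' := by simp
  add_mem' {D D'} h h' := by
    refine ⟨fun x y => ?_, fun x y => ?_, fun r => ?_⟩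
    · simp only [Pi.add_apply, h.1, h'.1]; ring
    · simp only [Pi.add_apply, h.2.1, h'.2.1]; ring
    · simp only [Pi.add_apply, h.2.2, h'.2.2, add_zero]
  smul_mem' c D h := by
    refine ⟨fun x y => ?_, fun x y => ?_, fun r => ?_⟩
    · simp only [Pi.smul_apply, h.1, smul_eq_mul]; ring
    · simp only [Pi.smul_apply, h.2.1, smul_eq_mul]; ring
    · simp only [Pi.smul_apply, h.2.2, smul_eq_mul, mul_zero]

/-- The additive map underlying a point derivation. -/
def toAdd {S : Type u} [CommRing S] [Algebra Λ S] {γ : S →ₐ[Λ] k} {D : S → k} (hD : D ∈ derSub γ) : S →+ k :=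
  AddMonoidHom.mk' D hD.1

lemma derSub_zero {S : Type u} [CommRing S] [Algebra Λ S] {γ : S →ₐ[Λ] k} {D : S → k} (hD : D ∈ derSub γ) : D 0 = 0 :=
  (toAdd hD).map_zero

lemma derSub_sub {S : Type u} [CommRing S] [Algebra Λ S] {γ : S →ₐ[Λ] k} {D : S → k} (hD : D ∈ derSub γ) (x y : S) :
    D (x - y) = D x - D y := (toAdd hD).map_sub x y

/-- A point derivation of the source of an essential surjection vanishes on the kernel. -/
theorem derSub_eq_zero_of_isEssential [IsNoetherianRing Λ] [Module.Finite Λ k] {A B : Art Λ k} (f : B ⟶ A)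
    (hf : IsEssential f) (D : B → k) (hD : D ∈ derSub B.res) (x : B) (hx : f x = 0) : D x = 0 := by
  by_contra hne
  have hx0 : B.res x = 0 := by rw [← res_app f, hx, map_zero]
  let C : Subalgebra Λ B :=
    { carrier := {b | D b = 0}
      mul_mem' := fun {a b} ha hb => by
        have ha' : D a = 0 := ha
        have hb' : D b = 0 := hb
        change D (a * b) = 0
        rw [hD.2.1, ha', hb', mul_zero, mul_zero, add_zero]
      add_mem' := fun {a b} ha hb => by
        have ha' : D a = 0 := ha
        have hb' : D b = 0 := hb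
        change D (a + b) = 0
        rw [hD.1, ha', hb', add_zero]
      algebraMap_mem' := fun r => hD.2.2 r }
  have hC : ∀ b : B, ∃ b' ∈ C, f b' = f b := by
    intro b
    obtain ⟨c, hc⟩ := B.res_surjective (D b / D x)
    refine ⟨b - c * x, ?_, ?_⟩
    · change D (b - c * x) = 0
      rw [derSub_sub hD, hD.2.1, hc, hx0, zero_mul, add_zero, div_mul_cancel₀ _ hne, sub_self]
    · have h1 : f (b - c * x) = f b - f c * f x := by
        change f.toAlgHom (b - c * x) = _
        rw [map_sub, map_mul]
      rw [h1, hx, mul_zero, sub_zero]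
  obtain ⟨C', i, hi⟩ := exists_subobject B C (fun c => by
    obtain ⟨b, hb⟩ := B.res_surjective c
    obtain ⟨b', hb', e⟩ := hC b
    refine ⟨b', hb', ?_⟩
    rw [← res_app f, e, res_app, hb])
  have hs : Function.Surjective (i ≫ f) := by
    intro a
    obtain ⟨b, rfl⟩ := hf.1 a
    obtain ⟨b', hb', e⟩ := hC b
    obtain ⟨c, hc⟩ := (hi b').1 hb'
    refine ⟨c, ?_⟩
    change f (i c) = _
    rw [hc, e]
  obtain ⟨c, hc⟩ := hf.2 C' i hs x
  exact hne ((hi x).2 ⟨c, hc⟩)

lemma ker_fg (A : Art Λ k) : (RingHom.ker A.res).FG := IsNoetherian.noetherian _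

/-- Surjectivity criterion through point derivations. -/
theorem surjective_of_derSub {A B : Art Λ k} (f : B ⟶ A)
    (h : ∀ D ∈ derSub A.res, (∀ b, D (f b) = 0) → D = 0) : Function.Surjective f := by
  refine Tangent.surjective_of_derivation B.res A.res f.toAlgHom f.res_comp B.res_surjective (ker_fg A) ?_
  intro D h1 h2
  have h3 := h D ⟨D.map_add, h1, fun r => by rw [← AlgHom.commutes f.toAlgHom]; exact h2 _⟩ h2
  ext x
  exact congrFun h3 x

/-- The converse of `derSub_eq_zero_of_isEssential`. -/
theorem isEssential_of_derSub {A B : Art Λ k} (f : B ⟶ A) (hf : Function.Surjective f)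
    (h : ∀ D ∈ derSub B.res, ∀ x, f x = 0 → D x = 0) : IsEssential f := by
  refine ⟨hf, fun C g hg => surjective_of_derSub g fun D hD hDg => ?_⟩
  funext b
  obtain ⟨c, hc⟩ := hg (f b)
  have h1 : f (b - g c) = 0 := by
    change f.toAlgHom (b - g c) = 0
    rw [map_sub, sub_eq_zero]
    exact hc.symm
  have h2 := h D hD _ h1
  rw [derSub_sub hD, hDg, sub_zero] at h2
  exact h2

theorem isEssential_iff [IsNoetherianRing Λ] [Module.Finite Λ k] {A B : Art Λ k} (f : B ⟶ A) :
    IsEssential f ↔ Function.Surjective f ∧ ∀ D ∈ derSub B.res, ∀ x, f x = 0 → D x = 0 :=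
  ⟨fun h => ⟨h.1, derSub_eq_zero_of_isEssential f h⟩, fun h => isEssential_of_derSub f h.1 h.2⟩

/-- Pull-back of point derivations. -/
def pull {A B : Art Λ k} (f : B ⟶ A) : derSub A.res →ₗ[k] derSub B.res where
  toFun D := ⟨fun b => D.1 (f b), by
    refine ⟨fun x y => ?_, fun x y => ?_, fun r => ?_⟩
    · rw [← D.2.1, ← map_add f.toAlgHom]
    · rw [← res_app f x, ← res_app f y, ← D.2.2.1, ← map_mul f.toAlgHom]
    · change D.1 (f.toAlgHom (algebraMap Λ B r)) = 0
      rw [AlgHom.commutes]; exact D.2.2.2 r⟩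
  map_add' _ _ := rfl
  map_smul' _ _ := rfl

lemma pull_injective {A B : Art Λ k} (f : B ⟶ A) (hf : Function.Surjective f) : Function.Injective (pull f) := by
  intro D D' h
  apply Subtype.ext
  funext a
  obtain ⟨b, rfl⟩ := hf a
  exact congrFun (congrArg Subtype.val h) b

lemma pull_surjective_iff {A B : Art Λ k} (f : B ⟶ A) (hf : Function.Surjective f) :
    Function.Surjective (pull f) ↔ ∀ D ∈ derSub B.res, ∀ x, f x = 0 → D x = 0 := by
  constructor
  · intro h D hD x hx
    obtain ⟨D', hD'⟩ := h ⟨D, hD⟩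
    have h1 : D'.1 (f x) = D x := congrFun (congrArg Subtype.val hD') x
    rw [← h1, hx]
    exact derSub_zero D'.2
  · intro h ⟨D, hD⟩
    have hwd : ∀ x y : B, f x = f y → D x = D y := by
      intro x y e
      have := h D hD (x - y) (by
        change f.toAlgHom (x - y) = 0
        rw [map_sub, sub_eq_zero]
        exact e)
      rwa [derSub_sub hD, sub_eq_zero] at this
    choose s hs using hf
    refine ⟨⟨fun a => D (s a), fun x y => ?_, fun x y => ?_, fun r => ?_⟩, ?_⟩
    · rw [← hD.1]
      apply hwd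
      rw [hs]
      change _ = f.toAlgHom _
      rw [map_add]
      congr 1
      · exact (hs x).symm
      · exact (hs y).symm
    · have e1 : A.res x = B.res (s x) := by rw [← res_app f, hs]
      have e2 : A.res y = B.res (s y) := by rw [← res_app f, hs]
      rw [e1, e2, ← hD.2.1]
      apply hwd
      rw [hs]
      change _ = f.toAlgHom _
      rw [map_mul]
      congr 1
      · exact (hs x).symm
      · exact (hs y).symm
    · rw [← hD.2.2 r]
      apply hwd
      rw [hs]
      exact (f.toAlgHom.commutes r).symm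
    · apply Subtype.ext
      funext b
      exact hwd _ _ (hs _)

section Kaehler

variable (S : Type u) [CommRing S] [Algebra Λ S] [Algebra S k] [IsScalarTower Λ S k]

/-- Point derivations as `Derivation`s. -/
noncomputable def derSubEquiv : Derivation Λ S k ≃ₗ[k] derSub (IsScalarTower.toAlgHom Λ S k) where
  toFun D := ⟨D, ⟨D.map_add, fun x y => by
    rw [D.leibniz, Algebra.smul_def, Algebra.smul_def]; rfl, D.map_algebraMap⟩⟩
  map_add' _ _ := rfl
  map_smul' _ _ := rfl
  invFun D := Derivation.mk'
    { toFun := D.1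
      map_add' := D.2.1
      map_smul' := fun r x => by
        rw [Algebra.smul_def, D.2.2.1, D.2.2.2, mul_zero, add_zero, RingHom.id_apply, Algebra.smul_def]
        congr 1
        exact (IsScalarTower.toAlgHom Λ S k).commutes r }
    (fun x y => by
      change D.1 (x * y) = _
      rw [D.2.2.1, Algebra.smul_def, Algebra.smul_def]; rfl)
  left_inv _ := rfl
  right_inv _ := rfl

/-- The dual of `Ω ⊗ k` is the space of derivations. -/
noncomputable def dualEquiv (hres : Function.Surjective (algebraMap S k)) :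
    Module.Dual k (k ⊗[S] Ω[S⁄Λ]) ≃ₗ[k] Derivation Λ S k :=
  (LinearMap.liftBaseChangeEquiv (R := S) (M := Ω[S⁄Λ]) (N := k) k).symm.trans
    ((KaehlerDifferential.linearMapEquivDerivation Λ S (M := k)).extendScalarsOfSurjective hres)

theorem finrank_kaehler (hres : Function.Surjective (algebraMap S k)) :
    Module.finrank k (k ⊗[S] Ω[S⁄Λ]) = Module.finrank k (derSub (IsScalarTower.toAlgHom Λ S k)) := by
  rw [← Subspace.dual_finrank_eq]
  exact ((dualEquiv S hres).trans (derSubEquiv S)).finrank_eq

end Kaehler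

end K725.Essential
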