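import Groth.Prelude.Def_ArtFun2
import Mathlib.CategoryTheory.Limits.Types.Pullbacks
import Mathlib.CategoryTheory.Limits.Shapes.Pullback.IsPullback.Basic

/-!
# Fibre products in `Art Λ k`: universal property, and fibre products of functors
-/

set_option autoImplicit false
set_option linter.style.haveILetI false
set_option linter.unusedSectionVars false

universe u v

open CategoryTheory

namespace K725.Fib

open ArtFun ArtFun.Art

variable {Λ : Type u} {k : Type u} [CommRing Λ] [Field k] [Algebra Λ k]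

section Lift

variable {B A A' A'' : Art Λ k} {p' : B ⟶ A'} {p'' : B ⟶ A''} {f' : A' ⟶ A} {f'' : A'' ⟶ A}

/-- **Universal property of `IsFibreProd`.** -/
theorem exists_lift (h : IsFibreProd p' p'' f' f'') {C : Art Λ k} (a : C ⟶ A') (b : C ⟶ A'')
    (hab : a ≫ f' = b ≫ f'') : ∃ c : C ⟶ B, c ≫ p' = a ∧ c ≫ p'' = b := by
  have hx : ∀ x : C, f' (a x) = f'' (b x) := fun x => by
    change (a ≫ f') x = (b ≫ f'') x
    rw [hab]
  choose c hc1 hc2 using fun x : C => h.surj (a x) (b x) (hx x)
  let cc : C →ₐ[Λ] B :=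
    { toFun := c
      map_one' := h.inj _ _ (by rw [hc1]; simp) (by rw [hc2]; simp)
      map_mul' := fun x y => h.inj _ _ (by rw [hc1]; simp [hc1]) (by rw [hc2]; simp [hc2])
      map_zero' := h.inj _ _ (by rw [hc1]; simp) (by rw [hc2]; simp)
      map_add' := fun x y => h.inj _ _ (by rw [hc1]; simp [hc1]) (by rw [hc2]; simp [hc2])
      commutes' := fun r => h.inj _ _ (by rw [hc1]; simp) (by rw [hc2]; simp) }
  refine ⟨⟨cc, ?_⟩, ?_, ?_⟩
  · ext x
    have h1 : A'.res (p' (c x)) = B.res (c x) := res_app p' (c x)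
    have h2 : A'.res (a x) = C.res x := res_app a x
    change B.res (c x) = C.res x
    rw [← h1, hc1, h2]
  · exact hom_ext (AlgHom.ext hc1)
  · exact hom_ext (AlgHom.ext hc2)

theorem lift_unique (h : IsFibreProd p' p'' f' f'') {C : Art Λ k} {c d : C ⟶ B}
    (h1 : c ≫ p' = d ≫ p') (h2 : c ≫ p'' = d ≫ p'') : c = d :=
  hom_ext (AlgHom.ext fun x => h.inj _ _
    (by change (c ≫ p') x = (d ≫ p') x; rw [h1]) (by change (c ≫ p'') x = (d ≫ p'') x; rw [h2]))

/-- The flipped square. -/
theorem flip (h : IsFibreProd p' p'' f' f'') : IsFibreProd p'' p' f'' f' where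
  w := h.w.symm
  inj b₁ b₂ h₁ h₂ := h.inj b₁ b₂ h₂ h₁
  surj a'' a' e := by
    obtain ⟨b, h1, h2⟩ := h.surj a' a'' e.symm
    exact ⟨b, h2, h1⟩

/-- Base change of a surjection is a surjection. -/
theorem fst_surjective (h : IsFibreProd p' p'' f' f'') (hf : Function.Surjective f'') : Function.Surjective p' := by
  intro a'
  obtain ⟨a'', ha⟩ := hf (f' a')
  obtain ⟨b, h1, -⟩ := h.surj a' a'' ha.symm
  exact ⟨b, h1⟩

end Lift

section Cmp

variable {B A A' A'' : Art Λ k} {p' : B ⟶ A'} {p'' : B ⟶ A''} {f' : A' ⟶ A} {f'' : A'' ⟶ A}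
variable (F : Art Λ k ⥤ Type v)

/-- Restatement of injectivity of the comparison map. -/
theorem cmp_injective_iff (h : IsFibreProd p' p'' f' f'') : Function.Injective (cmp F h) ↔
    ∀ z₁ z₂ : F.obj B, F.map p' z₁ = F.map p' z₂ → F.map p'' z₁ = F.map p'' z₂ → z₁ = z₂ := by
  constructor
  · intro H z₁ z₂ h1 h2
    exact H (FibProd.ext h1 h2)
  · intro H z₁ z₂ e
    exact H z₁ z₂ (congrArg (fun t => t.1.1) e) (congrArg (fun t => t.1.2) e)

/-- Restatement of surjectivity of the comparison map. -/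
theorem cmp_surjective_iff (h : IsFibreProd p' p'' f' f'') : Function.Surjective (cmp F h) ↔
    ∀ (x : F.obj A') (y : F.obj A''), F.map f' x = F.map f'' y → ∃ z : F.obj B, F.map p' z = x ∧ F.map p'' z = y := by
  constructor
  · intro H x y e
    obtain ⟨z, hz⟩ := H ⟨(x, y), e⟩
    exact ⟨z, congrArg (fun t => t.1.1) hz, congrArg (fun t => t.1.2) hz⟩
  · rintro H ⟨⟨x, y⟩, e⟩
    obtain ⟨z, h1, h2⟩ := H x y e
    exact ⟨z, FibProd.ext h1 h2⟩

theorem cmp_bijective_iff (h : IsFibreProd p' p'' f' f'') : Function.Bijective (cmp F h) ↔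
    (∀ z₁ z₂ : F.obj B, F.map p' z₁ = F.map p' z₂ → F.map p'' z₁ = F.map p'' z₂ → z₁ = z₂) ∧
    ∀ (x : F.obj A') (y : F.obj A''), F.map f' x = F.map f'' y → ∃ z : F.obj B, F.map p' z = x ∧ F.map p'' z = y :=
  and_congr (cmp_injective_iff F h) (cmp_surjective_iff F h)

variable {F}

lemma map_map {C D E : Art Λ k} (f : C ⟶ D) (g : D ⟶ E) (x : F.obj C) : F.map g (F.map f x) = F.map (f ≫ g) x := by
  rw [F.map_comp]; rfl

lemma map_id' {C : Art Λ k} (x : F.obj C) : F.map (𝟙 C) x = x := by
  rw [F.map_id]; rfl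

lemma nat {G : Art Λ k ⥤ Type v} (η : F ⟶ G) {C D : Art Λ k} (f : C ⟶ D) (x : F.obj C) :
    η.app D (F.map f x) = G.map f (η.app C x) := NatTrans.naturality_apply η f x

end Cmp

section Pullback

variable {F G H : Art Λ k ⥤ Type v} (f : H ⟶ F) (g : G ⟶ F)

/-- Elements of the fibre product functor: extensionality. -/
theorem pullback_ext {A : Art Λ k} {z₁ z₂ : (Limits.pullback f g).obj A}
    (h1 : (Limits.pullback.fst f g).app A z₁ = (Limits.pullback.fst f g).app A z₂)
    (h2 : (Limits.pullback.snd f g).app A z₁ = (Limits.pullback.snd f g).app A z₂) : z₁ = z₂ :=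
  Limits.Types.ext_of_isPullback ((IsPullback.of_hasPullback f g).app A) h1 h2

/-- Elements of the fibre product functor: existence. -/
theorem exists_pullback {A : Art Λ k} (x : H.obj A) (y : G.obj A) (h : f.app A x = g.app A y) :
    ∃ z : (Limits.pullback f g).obj A,
      (Limits.pullback.fst f g).app A z = x ∧ (Limits.pullback.snd f g).app A z = y :=
  Limits.Types.exists_of_isPullback ((IsPullback.of_hasPullback f g).app A) x y h

theorem pullback_condition_apply {A : Art Λ k} (z : (Limits.pullback f g).obj A) :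
    f.app A ((Limits.pullback.fst f g).app A z) = g.app A ((Limits.pullback.snd f g).app A z) := by
  have := congrArg (fun t : Limits.pullback f g ⟶ F => t.app A z) (Limits.pullback.condition (f := f) (g := g))
  exact this

end Pullback

end K725.Fib
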