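import Groth.Agent.ArtFun.K725.Completion
import Mathlib.RingTheory.FiniteType

/-!
# A smooth prorepresentable functor: completions of polynomial rings
-/

set_option autoImplicit false
set_option linter.style.haveILetI false

universe u v

open CategoryTheory

namespace K725.SmoothRing

open ArtFun

variable {Λ : Type u} {k : Type u} [CommRing Λ] [Field k] [Algebra Λ k]

/-- Completions of polynomial rings at the kernel of a surjection to `k` define smooth functors. -/
theorem isSmoothFunctor_cpl {σ : Type u} (ρ : MvPolynomial σ Λ →ₐ[Λ] k) (hρ : Function.Surjective ρ)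
    (hfg : (RingHom.ker ρ).FG) :
    IsSmoothFunctor (hR (Completion.cpl ρ hρ hfg).carrier (Completion.cpl ρ hρ hfg).res) := by
  intro B A μ hμ φ
  let φ' : HomSet (Completion.cpl ρ hρ hfg).carrier (Completion.cpl ρ hρ hfg).res A := φ
  let φ₀ : MvPolynomial σ Λ →ₐ[Λ] A := φ'.1.comp (Completion.toCpl ρ hρ hfg)
  have hφ₀ : A.res.comp φ₀ = ρ := by
    rw [← AlgHom.comp_assoc, φ'.2, Completion.res_comp_toCpl]
  choose b hb using fun i : σ => hμ (φ₀ (MvPolynomial.X i))
  let ψ₀ : MvPolynomial σ Λ →ₐ[Λ] B := MvPolynomial.aeval b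
  have h1 : μ.toAlgHom.comp ψ₀ = φ₀ := by
    ext i
    simp only [ψ₀, AlgHom.comp_apply, MvPolynomial.aeval_X]
    exact hb i
  have h2 : B.res.comp ψ₀ = ρ := by
    rw [← hφ₀, ← h1, ← AlgHom.comp_assoc, μ.res_comp]
  obtain ⟨ψ, ⟨h3, h4⟩, -⟩ := Completion.existsUnique_extend_art ρ hρ hfg B ψ₀ h2
  let ψ' : HomSet (Completion.cpl ρ hρ hfg).carrier (Completion.cpl ρ hρ hfg).res B := ⟨ψ, h3⟩
  refine ⟨ψ', ?_⟩
  refine (Completion.bijective_restrict_art ρ hρ hfg A).1 ?_
  apply Subtype.ext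
  change (μ.toAlgHom.comp ψ).comp (Completion.toCpl ρ hρ hfg) = φ₀
  rw [AlgHom.comp_assoc, h4, h1]

theorem exists_smooth [IsNoetherianRing Λ] [Module.Finite Λ k] :
    ∃ R : CRing Λ k, IsSmoothFunctor (hR R.carrier R.res) := by
  obtain ⟨n, f, hf⟩ := Algebra.FiniteType.iff_quotient_mvPolynomial''.1
    (inferInstance : Algebra.FiniteType Λ k)
  let e : MvPolynomial (ULift.{u} (Fin n)) Λ →ₐ[Λ] k :=
    f.comp (MvPolynomial.renameEquiv Λ Equiv.ulift).toAlgHom
  have he : Function.Surjective e := hf.comp (MvPolynomial.renameEquiv Λ Equiv.ulift).surjective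
  exact ⟨_, isSmoothFunctor_cpl e he (IsNoetherian.noetherian _)⟩

end K725.SmoothRing
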