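import Groth.Agent.RegImm.K559.StIdeal
import Groth.Agent.Flat2H.KoszulNoeth
import Groth.Agent.Divis.RegImm
import Groth.Agent.S1679

/-!
# Koszul-regular ideals on locally Noetherian schemes are regular

* `regAt`: at every point of the closed subscheme of a Koszul-regular ideal sheaf on a locally Noetherian scheme the
  ideal is generated near the point by a weakly regular sequence.
-/

set_option autoImplicit false

universe u

open CategoryTheory CategoryTheory.Limits AlgebraicGeometry

namespace K725.KosReg

open Groth.Agent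

/-- The ideal of a closed immersion restricted to an open. -/
theorem ker_morphismRestrict {X Y : Scheme.{u}} (i : Y ⟶ X) [IsClosedImmersion i] (V : X.Opens) :
    (i ∣_ V).ker = i.ker.comap V.ι := by
  have hpb := isPullback_morphismRestrict i V
  have h1 := Scheme.IdealSheafData.ker_fst_of_isClosedImmersion i V.ι
  rw [← h1]
  have h2 := hpb.isoPullback_inv_fst
  rw [← h2, Scheme.Hom.ker_comp_of_isIso]

/-- Regularity at a point from a regular sequence generating the ideal in the local ring. -/
theorem regAt_of_stalk {X Z : Scheme.{u}} [IsLocallyNoetherian X] (i : Z ⟶ X) [IsClosedImmersion i] (z : Z)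
    (h : ∃ rs : List ↑(X.presheaf.stalk (i z)), RingTheory.Sequence.IsRegular ↑(X.presheaf.stalk (i z)) rs ∧
        RingHom.ker (i.stalkMap z).hom = Ideal.ofList rs) : Divis.RegImm.RegAt i.ker (i z) := by
  obtain ⟨V, hzV, hV⟩ := (S1679.result i z).2 h
  have h1 := ((Divis.RegImm.isRegularClosedImmersion_iff _).1 hV).2 ⟨z, hzV⟩
  rw [ker_morphismRestrict, Divis.RegImm.regAt_comap_iff_of_isOpenImmersion] at h1
  have h2 : V.ι ((i ∣_ V) ⟨z, hzV⟩) = i z := by
    rw [← Scheme.Hom.comp_apply, morphismRestrict_ι, Scheme.Hom.comp_apply]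
    rfl
  rwa [h2] at h1

/-- A Koszul-regular ideal sheaf on a locally Noetherian scheme is generated near the points of the subscheme by a
weakly regular sequence. -/
theorem regAt {X : Scheme.{u}} [IsLocallyNoetherian X] (I : X.IdealSheafData)
    (h : RegImm.IsRegularIdeal RegImm.Kind.koszul I) (y : I.subscheme) :
    Divis.RegImm.RegAt I (I.subschemeι y) := by
  have hk := I.ker_subschemeι
  have hy : I.subschemeι y ∈ I.support := by
    have h1 := I.subschemeι.range_subset_ker_support ⟨y, rfl⟩
    rwa [hk] at h1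
  obtain ⟨U, hU, rs, hrs, hI⟩ := h _ hy
  have hcl : IsClosedImmersion (I.subschemeι ∣_ U.1) := inferInstance
  have hker : RingHom.ker (I.subschemeι.app U.1).hom = Ideal.ofList rs := by
    rw [← hI, ← Scheme.Hom.ker_apply, hk]
  obtain ⟨ss, -, hss, hs⟩ := K559.StIdeal.exists_koszul (p := fun _ => True) (i := I.subschemeι) (y := y)
    ⟨U, hU, hcl, rs, trivial, hrs, hker⟩
  have hmax : ∀ f ∈ ss, f ∈ IsLocalRing.maximalIdeal (X.presheaf.stalk (I.subschemeι y)) := by
    intro f hf
    have h1 : f ∈ Ideal.ofList ss := Ideal.subset_span hf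
    rw [← hs] at h1
    exact IsLocalRing.le_maximalIdeal (RingHom.ker_ne_top _) h1
  have h1 := (Flat2H.KoszulNoeth.isKoszulRegularSeq_iff_isWeaklyRegular hmax).1 hss
  have h2 := regAt_of_stalk I.subschemeι y ⟨ss, (Divis.RegImm.isRegular_iff_ne_top ss).2 ⟨h1, by
    rw [← hs]; exact RingHom.ker_ne_top _⟩, hs⟩
  rwa [hk] at h2

end K725.KosReg
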