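import Groth.Agent.ArtFun.K725.Completion
import Mathlib.RingTheory.AdicCompletion.Functoriality
import Mathlib.LinearAlgebra.Dual.Lemmas
import Mathlib.RingTheory.Nakayama
import Mathlib.RingTheory.AdicCompletion.Algebra

/-!
# Tangent vectors and surjectivity of augmented maps
-/

set_option autoImplicit false
set_option linter.style.haveILetI false
set_option linter.unusedSectionVars false

universe u v

open CategoryTheory

namespace K725.Tangent

open ArtFun

variable {Λ : Type u} {k : Type u} [CommRing Λ] [Field k] [Algebra Λ k]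

section Key

variable {S : Type u} [CommRing S] [Algebra Λ S] (γ : S →ₐ[Λ] k) (J : Ideal S)

/-- **Key construction.**  If `S/J → k` (with `(ker γ)² ≤ J ≤ ker γ`) has a `Λ`-algebra section `s`, every element of
`ker γ` outside `J` is detected by a `Λ`-derivation `S → k` vanishing on `J` and on the preimage of `s(k)`. -/
theorem exists_derivation (hJ : J ≤ RingHom.ker γ) (hJ2 : RingHom.ker γ ^ 2 ≤ J)
    (s : k →ₐ[Λ] S ⧸ J) (hs : (Ideal.Quotient.liftₐ J γ (fun _ ha => hJ ha)).comp s = AlgHom.id Λ k)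
    (x₀ : S) (hx₀ : x₀ ∈ RingHom.ker γ) (hx₀' : x₀ ∉ J) :
    ∃ D : S →+ k, (∀ x y, D (x * y) = γ x * D y + γ y * D x) ∧ (∀ x ∈ J, D x = 0) ∧
      (∀ x c, Ideal.Quotient.mk J x = s c → D x = 0) ∧ D x₀ ≠ 0 := by
  letI : Algebra k (S ⧸ J) := s.toRingHom.toAlgebra
  have hsm : ∀ (c : k) (x : S ⧸ J), c • x = s c * x := fun c x => Algebra.smul_def c x
  let γ' : S ⧸ J →ₐ[Λ] k := Ideal.Quotient.liftₐ J γ (fun _ ha => hJ ha)
  have hγ' : ∀ c, γ' (s c) = c := fun c => DFunLike.congr_fun hs c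
  have hγmk : ∀ x, γ' (Ideal.Quotient.mk J x) = γ x := fun x => rfl
  have hx₀'' : (Ideal.Quotient.mk J x₀ : S ⧸ J) ≠ 0 := fun h => hx₀' (Ideal.Quotient.eq_zero_iff_mem.1 h)
  obtain ⟨ℓ, hℓ⟩ : ∃ ℓ : Module.Dual k (S ⧸ J), ℓ (Ideal.Quotient.mk J x₀) ≠ 0 := by
    by_contra hcon
    push Not at hcon
    exact hx₀'' ((Module.forall_dual_apply_eq_zero_iff k _).1 hcon)
  have hsq : ∀ x y : S ⧸ J, γ' x = 0 → γ' y = 0 → x * y = 0 := by
    intro x y hx hy
    obtain ⟨a, rfl⟩ := Ideal.Quotient.mk_surjective x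
    obtain ⟨b, rfl⟩ := Ideal.Quotient.mk_surjective y
    rw [← map_mul, Ideal.Quotient.eq_zero_iff_mem]
    refine hJ2 ?_
    rw [pow_two]
    exact Ideal.mul_mem_mul hx hy
  let D' : S ⧸ J →+ k :=
    { toFun := fun x => ℓ (x - s (γ' x))
      map_zero' := by simp
      map_add' := fun x y => by
        rw [← map_add]; congr 1; rw [map_add, map_add]; ring }
  have hD' : ∀ x, D' x = ℓ (x - s (γ' x)) := fun x => rfl
  have hmul : ∀ x y, D' (x * y) = γ' x * D' y + γ' y * D' x := by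
    intro x y
    have h1 : (x - s (γ' x)) * (y - s (γ' y)) = 0 := by
      apply hsq
      · rw [map_sub, hγ', sub_self]
      · rw [map_sub, hγ', sub_self]
    have h2 : x * y - s (γ' (x * y)) = γ' x • (y - s (γ' y)) + γ' y • (x - s (γ' x)) := by
      rw [hsm, hsm, map_mul, map_mul]
      linear_combination h1
    rw [hD', h2, map_add, map_smul, map_smul, smul_eq_mul, smul_eq_mul]
    rfl
  refine ⟨D'.comp (Ideal.Quotient.mk J).toAddMonoidHom, ?_, ?_, ?_, ?_⟩
  · intro x y
    exact hmul (Ideal.Quotient.mk J x) (Ideal.Quotient.mk J y)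
  · intro x hx
    change D' (Ideal.Quotient.mk J x) = 0
    rw [Ideal.Quotient.eq_zero_iff_mem.2 hx, map_zero]
  · intro x c hx
    change D' (Ideal.Quotient.mk J x) = 0
    rw [hx, hD', hγ', sub_self, map_zero]
  · change ℓ (Ideal.Quotient.mk J x₀ - s (γ' (Ideal.Quotient.mk J x₀))) ≠ 0
    rw [hγmk, show γ x₀ = 0 from hx₀, map_zero, sub_zero]
    exact hℓ

/-- An additive map satisfying the Leibniz rule gives an augmented map to the dual numbers. -/
noncomputable def toDual (D : S →+ k) (hD : ∀ x y, D (x * y) = γ x * D y + γ y * D x)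
    (hΛ : ∀ r : Λ, D (algebraMap Λ S r) = 0) : S →ₐ[Λ] DualNumber k where
  toFun x := TrivSqZeroExt.inl (γ x) + TrivSqZeroExt.inr (D x)
  map_one' := by
    have h : D 1 = 0 := by
      have := hD 1 1
      simp only [mul_one, map_one, one_mul] at this
      simpa using this
    rw [h]; simp
  map_zero' := by simp
  map_add' x y := by
    rw [map_add, map_add, TrivSqZeroExt.inl_add, TrivSqZeroExt.inr_add]; abel
  map_mul' x y := by
    refine TrivSqZeroExt.ext ?_ ?_
    · simp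
    · simp [hD, mul_comm]
  commutes' r := by
    rw [hΛ, AlgHom.commutes]
    simp [TrivSqZeroExt.algebraMap_eq_inl']

lemma toDual_fst (D : S →+ k) (hD : ∀ x y, D (x * y) = γ x * D y + γ y * D x)
    (hΛ : ∀ r : Λ, D (algebraMap Λ S r) = 0) (x : S) : (toDual γ D hD hΛ x).fst = γ x := by
  simp [toDual]

lemma toDual_snd (D : S →+ k) (hD : ∀ x y, D (x * y) = γ x * D y + γ y * D x)
    (hΛ : ∀ r : Λ, D (algebraMap Λ S r) = 0) (x : S) : (toDual γ D hD hΛ x).snd = D x := by
  simp [toDual]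

lemma toDual_res (D : S →+ k) (hD : ∀ x y, D (x * y) = γ x * D y + γ y * D x)
    (hΛ : ∀ r : Λ, D (algebraMap Λ S r) = 0) : (Art.dual Λ k).res.comp (toDual γ D hD hΛ) = γ :=
  AlgHom.ext fun x => toDual_fst γ D hD hΛ x

end Key

section Surj

variable {R S : Type u} [CommRing R] [Algebra Λ R] [CommRing S] [Algebra Λ S]
variable (σ : R →ₐ[Λ] k) (γ : S →ₐ[Λ] k) (f : R →ₐ[Λ] S) (hf : γ.comp f = σ)

include hf in
lemma map_ker_le : Ideal.map f (RingHom.ker σ) ≤ RingHom.ker γ := by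
  rw [Ideal.map_le_iff_le_comap]
  simpa using Completion.map_ker_pow_le σ γ f hf 1

include hf in
/-- The section `k → S/J` induced by an augmented map `R → S` when `J` contains the image of the augmentation ideal. -/
lemma exists_section (hσ : Function.Surjective σ) (J : Ideal S) (hJ : J ≤ RingHom.ker γ)
    (hfJ : Ideal.map f (RingHom.ker σ) ≤ J) :
    ∃ s : k →ₐ[Λ] S ⧸ J, (Ideal.Quotient.liftₐ J γ (fun _ ha => hJ ha)).comp s = AlgHom.id Λ k ∧
      ∀ r, s (σ r) = Ideal.Quotient.mk J (f r) := by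
  let e := Ideal.quotientKerAlgEquivOfSurjective hσ
  let q : R ⧸ RingHom.ker σ →ₐ[Λ] S ⧸ J := Ideal.Quotient.liftₐ (RingHom.ker σ) ((Ideal.Quotient.mkₐ Λ J).comp f) (by
    intro a ha
    exact Ideal.Quotient.eq_zero_iff_mem.2 (hfJ (Ideal.mem_map_of_mem _ ha)))
  have he : ∀ r, e.symm (σ r) = Ideal.Quotient.mk _ r := by
    intro r
    rw [AlgEquiv.symm_apply_eq]
    rfl
  have h1 : ∀ r, (q.comp e.symm.toAlgHom) (σ r) = Ideal.Quotient.mk J (f r) := by
    intro r
    change q (e.symm (σ r)) = _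
    rw [he]
    rfl
  refine ⟨q.comp e.symm.toAlgHom, ?_, h1⟩
  ext c
  obtain ⟨r, rfl⟩ := hσ c
  rw [AlgHom.comp_apply, h1]
  change γ (f r) = σ r
  rw [← hf]
  rfl

include hf in
/-- If `f : R → S` is not surjective on cotangent spaces there is a nonzero derivation of `S` vanishing on `R`. -/
theorem exists_derivation_of_not_surj (hσ : Function.Surjective σ)
    (x₀ : S) (hx₀ : x₀ ∈ RingHom.ker γ) (hx₀' : x₀ ∉ Ideal.map f (RingHom.ker σ) ⊔ RingHom.ker γ ^ 2) :
    ∃ D : S →+ k, (∀ x y, D (x * y) = γ x * D y + γ y * D x) ∧ (∀ r, D (f r) = 0) ∧ D x₀ ≠ 0 := by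
  have hJ : Ideal.map f (RingHom.ker σ) ⊔ RingHom.ker γ ^ 2 ≤ RingHom.ker γ :=
    sup_le (map_ker_le σ γ f hf) (Ideal.pow_le_self two_ne_zero)
  obtain ⟨s, hs, hsr⟩ := exists_section σ γ f hf hσ _ hJ le_sup_left
  obtain ⟨D, h1, -, h3, h4⟩ := exists_derivation γ _ hJ le_sup_right s hs x₀ hx₀ hx₀'
  exact ⟨D, h1, fun r => h3 _ (σ r) (hsr r).symm, h4⟩

include hf in
/-- **Surjectivity criterion**: surjective on cotangent spaces implies surjective. -/
theorem surjective_of_map_sup_sq (hσ : Function.Surjective σ) [IsAdicComplete (RingHom.ker σ) R]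
    [IsAdicComplete (RingHom.ker γ) S] (hfg : (RingHom.ker γ).FG)
    (h : RingHom.ker γ ≤ Ideal.map f (RingHom.ker σ) ⊔ RingHom.ker γ ^ 2) : Function.Surjective f := by
  have h1 : Ideal.map f (RingHom.ker σ) = RingHom.ker γ := by
    refine le_antisymm (map_ker_le σ γ f hf) ?_
    have h2 : RingHom.ker γ ≤ Ideal.map f (RingHom.ker σ) ⊔ RingHom.ker γ • RingHom.ker γ := by
      rwa [smul_eq_mul, ← pow_two]
    exact Submodule.le_of_le_smul_of_le_jacobson_bot hfg (IsAdicComplete.le_jacobson_bot _) h2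
  have h3 : Ideal.map (f : R →+* S) (RingHom.ker σ) = RingHom.ker γ := h1
  haveI : IsHausdorff (Ideal.map (f : R →+* S) (RingHom.ker σ)) S := by
    rw [h3]; infer_instance
  have h4 : Function.Surjective ((Ideal.Quotient.mk (Ideal.map (f : R →+* S) (RingHom.ker σ))).comp (f : R →+* S)) := by
    intro x
    obtain ⟨y, rfl⟩ := Ideal.Quotient.mk_surjective x
    obtain ⟨r, hr⟩ := hσ (γ y)
    refine ⟨r, ?_⟩
    change Ideal.Quotient.mk _ (f r) = _
    rw [Ideal.Quotient.eq, h3, RingHom.mem_ker, map_sub, sub_eq_zero, ← hr, ← hf]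
    rfl
  exact surjective_of_mk_map_comp_surjective (I := RingHom.ker σ) (f := (f : R →+* S)) h4

include hf in
/-- Derivation criterion for surjectivity. -/
theorem surjective_of_derivation (hσ : Function.Surjective σ) [IsAdicComplete (RingHom.ker σ) R]
    [IsAdicComplete (RingHom.ker γ) S] (hfg : (RingHom.ker γ).FG)
    (h : ∀ D : S →+ k, (∀ x y, D (x * y) = γ x * D y + γ y * D x) → (∀ r, D (f r) = 0) → D = 0) :
    Function.Surjective f := by
  refine surjective_of_map_sup_sq σ γ f hf hσ hfg ?_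
  intro x₀ hx₀
  by_contra hx₀'
  obtain ⟨D, h1, h2, h3⟩ := exists_derivation_of_not_surj σ γ f hf hσ x₀ hx₀ hx₀'
  exact h3 (by rw [h D h1 h2]; rfl)

include hf in
/-- **Tangent criterion for surjectivity**: if two augmented maps `S → k[ε]` agreeing on `R` are equal then `f` is
surjective. -/
theorem surjective_of_tangent_injective (hσ : Function.Surjective σ) [IsAdicComplete (RingHom.ker σ) R]
    [IsAdicComplete (RingHom.ker γ) S] (hfg : (RingHom.ker γ).FG)
    (h : ∀ δ₁ δ₂ : HomSet S γ (Art.dual Λ k), δ₁.1.comp f = δ₂.1.comp f → δ₁ = δ₂) :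
    Function.Surjective f := by
  refine surjective_of_derivation σ γ f hf hσ hfg ?_
  intro D h1 h2
  have hΛ : ∀ r : Λ, D (algebraMap Λ S r) = 0 := fun r => by
    rw [← AlgHom.commutes f]; exact h2 _
  have hz : ∀ x y, (0 : S →+ k) (x * y) = γ x * (0 : S →+ k) y + γ y * (0 : S →+ k) x := by simp
  have := h ⟨toDual γ D h1 hΛ, toDual_res γ D h1 hΛ⟩ ⟨toDual γ 0 hz (fun _ => rfl), toDual_res γ 0 hz (fun _ => rfl)⟩ (by
    ext r
    refine TrivSqZeroExt.ext ?_ ?_
    · exact (toDual_fst γ D h1 hΛ (f r)).trans (toDual_fst γ 0 hz (fun _ => rfl) (f r)).symm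
    · exact (toDual_snd γ D h1 hΛ (f r)).trans ((h2 r).trans (toDual_snd γ 0 hz (fun _ => rfl) (f r)).symm))
  ext x
  have h5 : toDual γ D h1 hΛ = toDual γ 0 hz (fun _ => rfl) := congrArg Subtype.val this
  have h6 := congrArg (fun t : S →ₐ[Λ] DualNumber k => (t x).snd) h5
  simp only [toDual_snd] at h6
  exact h6

end Surj

end K725.Tangent
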