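import Groth.Agent.ArtFun.K725.Completion
import Groth.Agent.ArtFun.K725.Tangent
import Groth.Agent.ArtFun.K724.Basic
import Groth.Agent.Deform.K680.OI
import Mathlib.CategoryTheory.Functor.OfSequence
import Mathlib.Algebra.MvPolynomial.Basic

/-!
# Limits of surjective systems of bounded embedding dimension
-/

set_option autoImplicit false
set_option linter.style.haveILetI false
set_option linter.unusedSectionVars false

universe u v

open CategoryTheory

namespace K725.Limit

section Cotangent

open IsLocalRing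

/-- A surjection of Noetherian local rings which does not lower the embedding dimension has its kernel in the square of the
maximal ideal. -/
theorem ker_le_sq {B C : Type*} [CommRing B] [IsLocalRing B] [IsNoetherianRing B] [CommRing C] [IsLocalRing C]
    [IsNoetherianRing C] (φ : B →+* C) (hφ : Function.Surjective φ)
    (h : Module.finrank (ResidueField B) (CotangentSpace B) ≤ Module.finrank (ResidueField C) (CotangentSpace C)) :
    RingHom.ker φ ≤ maximalIdeal B ^ 2 := by
  haveI : IsLocalHom φ := hφ.isLocalHom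
  set c := Module.finrank (ResidueField C) (CotangentSpace C) with hc
  let b := Module.finBasis (ResidueField C) (CotangentSpace C)
  have hmem : ∀ a : B, φ a ∈ maximalIdeal C → a ∈ maximalIdeal B := by
    intro a ha
    rw [mem_maximalIdeal, mem_nonunits_iff] at ha ⊢
    exact fun hu => ha (hu.map φ)
  have hmem' : ∀ a : B, a ∈ maximalIdeal B → φ a ∈ maximalIdeal C := by
    intro a ha
    rw [mem_maximalIdeal, mem_nonunits_iff] at ha ⊢
    exact fun hu => ha (isUnit_of_map_unit φ a hu)
  have hx' : ∀ i, ∃ x : maximalIdeal C, (maximalIdeal C).toCotangent x = b i := fun i =>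
    Ideal.toCotangent_surjective _ _
  choose x hx using hx'
  have hy' : ∀ i, ∃ y : maximalIdeal B, φ y = x i := by
    intro i
    obtain ⟨y, hy⟩ := hφ (x i)
    exact ⟨⟨y, hmem y (hy ▸ (x i).2)⟩, hy⟩
  choose y hy using hy'
  have key : ∀ a : Fin c → B, ∑ i, φ (a i) * (x i : C) ∈ maximalIdeal C ^ 2 → ∀ i, a i ∈ maximalIdeal B := by
    intro a ha i
    have h1 : (maximalIdeal C).toCotangent (∑ i, φ (a i) • x i) = 0 := by
      rw [Ideal.toCotangent_eq_zero]
      convert ha using 1
      simp
    rw [map_sum] at h1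
    have h2 : ∑ i, residue C (φ (a i)) • b i = 0 := by
      rw [← h1]
      refine Finset.sum_congr rfl fun i _ => ?_
      rw [map_smul, hx]
      rfl
    have h3 := Fintype.linearIndependent_iff.1 b.linearIndependent _ h2 i
    rw [residue_eq_zero_iff] at h3
    exact hmem _ h3
  let v : Fin c → CotangentSpace B := fun i => (maximalIdeal B).toCotangent (y i)
  have hsumB : ∀ a : Fin c → B, ∑ i, residue B (a i) • v i = (maximalIdeal B).toCotangent (∑ i, a i • y i) := by
    intro a
    rw [map_sum]
    refine Finset.sum_congr rfl fun i _ => ?_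
    rw [map_smul]
    rfl
  have hφsum : ∀ a : Fin c → B, φ ((∑ i, a i • y i : maximalIdeal B) : B) = ∑ i, φ (a i) * (x i : C) := by
    intro a
    simp [hy]
  have hpow : ∀ z ∈ maximalIdeal B ^ 2, φ z ∈ maximalIdeal C ^ 2 := by
    intro z hz
    have h0 : maximalIdeal B ≤ (maximalIdeal C).comap φ := fun a ha => hmem' a ha
    have h1 : maximalIdeal B ^ 2 ≤ (maximalIdeal C ^ 2).comap φ :=
      (Ideal.pow_right_mono h0 2).trans (Ideal.le_comap_pow φ 2)
    exact h1 hz
  have hli : LinearIndependent (ResidueField B) v := by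
    rw [Fintype.linearIndependent_iff]
    intro g hg i
    have ha' : ∀ i, ∃ a : B, residue B a = g i := fun i => residue_surjective (g i)
    choose a ha using ha'
    have h1 : (maximalIdeal B).toCotangent (∑ i, a i • y i) = 0 := by
      rw [← hsumB, ← hg]
      exact Finset.sum_congr rfl fun i _ => by rw [ha]
    rw [Ideal.toCotangent_eq_zero] at h1
    have h2 := hpow _ h1
    rw [hφsum] at h2
    rw [← ha, residue_eq_zero_iff]
    exact key a h2 i
  have hcard : Fintype.card (Fin c) = Module.finrank (ResidueField B) (CotangentSpace B) := by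
    refine le_antisymm hli.fintype_card_le_finrank ?_
    rwa [Fintype.card_fin]
  have hspan := hli.span_eq_top_of_card_eq_finrank' hcard
  intro z hz
  rw [RingHom.mem_ker] at hz
  have hzm : z ∈ maximalIdeal B := hmem z (by rw [hz]; exact Ideal.zero_mem _)
  have h1 : (maximalIdeal B).toCotangent ⟨z, hzm⟩ ∈ Submodule.span (ResidueField B) (Set.range v) := by
    rw [hspan]; trivial
  obtain ⟨g, hg⟩ := (Submodule.mem_span_range_iff_exists_fun _).1 h1
  have ha' : ∀ i, ∃ a : B, residue B a = g i := fun i => residue_surjective (g i)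
  choose a ha using ha'
  have h2 : (maximalIdeal B).toCotangent ⟨z, hzm⟩ = (maximalIdeal B).toCotangent (∑ i, a i • y i) := by
    rw [← hsumB, ← hg]
    exact Finset.sum_congr rfl fun i _ => by rw [ha]
  rw [Ideal.toCotangent_eq] at h2
  have h3 := hpow _ h2
  rw [map_sub, hφsum] at h3
  change φ z - _ ∈ _ at h3
  rw [hz, zero_sub, neg_mem_iff] at h3
  have h4 := key a h3
  have h5 : ((∑ i, a i • y i : maximalIdeal B) : B) ∈ maximalIdeal B ^ 2 := by
    rw [Submodule.coe_sum]
    refine Ideal.sum_mem _ fun i _ => ?_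
    rw [pow_two]
    exact Ideal.mul_mem_mul (h4 i) (y i).2
  have h6 := Ideal.add_mem _ h2 h5
  rwa [sub_add_cancel] at h6

end Cotangent

open ArtFun ArtFun.Art

variable {Λ : Type u} {k : Type u} [CommRing Λ] [Field k] [Algebra Λ k]

section System

variable (A : ℕ → Art Λ k) (f : ∀ n, A (n + 1) ⟶ A n)

/-- Transition maps of a sequence. -/
noncomputable def tr {m n : ℕ} (h : m ≤ n) : A n ⟶ A m := (Functor.ofOpSequence f).map (homOfLE h).op

lemma tr_succ (n : ℕ) : tr A f (Nat.le_succ n) = f n := Functor.ofOpSequence_map_homOfLE_succ f n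

lemma tr_tr {l m n : ℕ} (h : l ≤ m) (h' : m ≤ n) : tr A f h' ≫ tr A f h = tr A f (h.trans h') :=
  ((Functor.ofOpSequence f).map_comp (homOfLE h').op (homOfLE h).op).symm

lemma tr_self (n : ℕ) : tr A f (le_refl n) = 𝟙 (A n) := (Functor.ofOpSequence f).map_id _

lemma tr_surjective (hf : ∀ n, Function.Surjective (f n)) {m n : ℕ} (h : m ≤ n) : Function.Surjective (tr A f h) := by
  induction n, h using Nat.le_induction with
  | base =>
    rw [tr_self]
    exact fun x => ⟨x, rfl⟩
  | succ n hn ih =>
    rw [← tr_tr A f hn (Nat.le_succ n), tr_succ]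
    exact ih.comp (hf n)

/-- Compatible lifts of a map from a polynomial ring. -/
theorem exists_compatible (hf : ∀ n, Function.Surjective (f n)) {σ : Type*} (m : ℕ)
    (φ₀ : MvPolynomial σ Λ →ₐ[Λ] A m) :
    ∃ φ : ∀ n, MvPolynomial σ Λ →ₐ[Λ] A n, (∀ n, (f n).toAlgHom.comp (φ (n + 1)) = φ n) ∧ φ m = φ₀ := by
  let ψ : ∀ n, MvPolynomial σ Λ →ₐ[Λ] A (m + n) := fun n => Nat.rec φ₀
    (fun n φn => MvPolynomial.aeval (fun i => Classical.choose (hf (m + n) (φn (MvPolynomial.X i))))) n
  have hψ : ∀ n, (f (m + n)).toAlgHom.comp (ψ (n + 1)) = ψ n := by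
    intro n
    apply MvPolynomial.algHom_ext
    intro i
    change (f (m + n)) (MvPolynomial.aeval (fun i => Classical.choose (hf (m + n) (ψ n (MvPolynomial.X i))))
      (MvPolynomial.X i)) = _
    rw [MvPolynomial.aeval_X]
    exact Classical.choose_spec (hf (m + n) (ψ n (MvPolynomial.X i)))
  refine ⟨fun n => (tr A f (Nat.le_add_left n m)).toAlgHom.comp (ψ n), fun n => ?_, ?_⟩
  · have h1 : tr A f (Nat.le_add_left (n + 1) m) ≫ f n = f (m + n) ≫ tr A f (Nat.le_add_left n m) := by
      rw [← tr_succ A f n, ← tr_succ A f (m + n), tr_tr, tr_tr]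
    rw [← AlgHom.comp_assoc]
    have h2 : (f n).toAlgHom.comp (tr A f (Nat.le_add_left (n + 1) m)).toAlgHom =
        (tr A f (Nat.le_add_left n m)).toAlgHom.comp (f (m + n)).toAlgHom := congrArg Hom.toAlgHom h1
    rw [h2, AlgHom.comp_assoc, hψ]
  · have h3 : ∀ n, (tr A f (Nat.le_add_right m n)).toAlgHom.comp (ψ n) = φ₀ := by
      intro n
      induction n with
      | zero =>
        change (tr A f (le_refl m)).toAlgHom.comp φ₀ = φ₀
        rw [tr_self]
        rfl
      | succ n ih =>
        have h4 : tr A f (Nat.le_add_right m (n + 1)) = f (m + n) ≫ tr A f (Nat.le_add_right m n) := by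
          rw [← tr_succ A f (m + n), tr_tr]
        rw [h4]
        change ((tr A f (Nat.le_add_right m n)).toAlgHom.comp (f (m + n)).toAlgHom).comp (ψ (n + 1)) = φ₀
        rw [AlgHom.comp_assoc, hψ, ih]
    exact h3 m

lemma comp_tr {T : Type*} [CommRing T] [Algebra Λ T] (φ : ∀ n, T →ₐ[Λ] A n)
    (hφ : ∀ n, (f n).toAlgHom.comp (φ (n + 1)) = φ n) {m n : ℕ} (h : m ≤ n) :
    (tr A f h).toAlgHom.comp (φ n) = φ m := by
  induction n, h using Nat.le_induction with
  | base =>
    rw [tr_self]
    rfl
  | succ n hn ih =>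
    rw [← tr_tr A f hn (Nat.le_succ n), tr_succ]
    change ((tr A f hn).toAlgHom.comp (f n).toAlgHom).comp (φ (n + 1)) = φ m
    rw [AlgHom.comp_assoc, hφ, ih]

/-- A coefficient ring surjecting compatibly onto a surjective system of bounded embedding dimension. -/
theorem exists_cover [IsNoetherianRing Λ] [Module.Finite Λ k] (hf : ∀ n, Function.Surjective (f n))
    (d : ℕ) (hd : ∀ n, Module.finrank (IsLocalRing.ResidueField (A n)) (IsLocalRing.CotangentSpace (A n)) ≤ d) :
    ∃ (P : CRing Λ k) (p : ∀ n, HomSet P.carrier P.res (A n)),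
      (∀ n, HomSet.map (f n) (p (n + 1)) = p n) ∧ ∀ n, Function.Surjective (p n).1 := by
  let c : ℕ → ℕ := fun n => Module.finrank (IsLocalRing.ResidueField (A n)) (IsLocalRing.CotangentSpace (A n))
  have hbdd : BddAbove (Set.range c) := ⟨d, by rintro _ ⟨n, rfl⟩; exact hd n⟩
  obtain ⟨m, hm⟩ := Nat.sSup_mem (Set.range_nonempty c) hbdd
  have hcm : ∀ n, c n ≤ c m := fun n => by
    rw [hm]
    exact le_csSup hbdd ⟨n, rfl⟩
  haveI : Module.Finite Λ (A m) := K724.Basic.moduleFinite (A m)
  obtain ⟨s, φ₀, hφ₀⟩ := Algebra.FiniteType.iff_quotient_mvPolynomial''.1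
    (inferInstance : Algebra.FiniteType Λ (A m))
  obtain ⟨φ, hφ, rfl⟩ := exists_compatible A f hf m φ₀
  let ρ : MvPolynomial (Fin s) Λ →ₐ[Λ] k := (A m).res.comp (φ m)
  have hρ : Function.Surjective ρ := (A m).res_surjective.comp hφ₀
  have hres0 : ∀ n, (A n).res.comp (φ n) = (A 0).res.comp (φ 0) := by
    intro n
    induction n with
    | zero => rfl
    | succ n ih =>
      rw [← ih, ← (f n).res_comp, AlgHom.comp_assoc, hφ]
  have hres : ∀ n, (A n).res.comp (φ n) = ρ := fun n => (hres0 n).trans (hres0 m).symm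
  have hfg : (RingHom.ker ρ).FG := IsNoetherian.noetherian _
  have hp' := fun n => (Completion.existsUnique_extend_art ρ hρ hfg (A n) (φ n) (hres n)).exists
  choose p hp using hp'
  refine ⟨Completion.cpl ρ hρ hfg, fun n => ⟨p n, (hp n).1⟩, fun n => ?_, ?_⟩
  · apply Subtype.ext
    apply (Completion.existsUnique_extend_art ρ hρ hfg (A n) (φ n) (hres n)).unique
    · constructor
      · change (A n).res.comp ((f n).toAlgHom.comp (p (n + 1))) = _
        rw [← AlgHom.comp_assoc, (f n).res_comp]
        exact (hp (n + 1)).1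
      · change ((f n).toAlgHom.comp (p (n + 1))).comp _ = _
        rw [AlgHom.comp_assoc, (hp (n + 1)).2, hφ]
    · exact hp n
  · have hcompat : ∀ n, (f n).toAlgHom.comp (p (n + 1)) = p n := by
      intro n
      apply (Completion.existsUnique_extend_art ρ hρ hfg (A n) (φ n) (hres n)).unique
      · constructor
        · change (A n).res.comp ((f n).toAlgHom.comp (p (n + 1))) = _
          rw [← AlgHom.comp_assoc, (f n).res_comp]
          exact (hp (n + 1)).1
        · change ((f n).toAlgHom.comp (p (n + 1))).comp _ = _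
          rw [AlgHom.comp_assoc, (hp (n + 1)).2, hφ]
      · exact hp n
    have key : ∀ N, m ≤ N → Function.Surjective (p N) := by
      intro N hN
      refine Tangent.surjective_of_map_sup_sq (Completion.cpl ρ hρ hfg).res (A N).res (p N) (hp N).1
        (Completion.cpl ρ hρ hfg).res_surjective (IsNoetherian.noetherian _) ?_
      intro a ha
      obtain ⟨t, ht⟩ := hφ₀ (tr A f hN a)
      have h1 : ρ t = 0 := by
        change (A m).res (φ m t) = 0
        rw [ht]
        exact (DFunLike.congr_fun (tr A f hN).res_comp a).trans ha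
      have h2 : tr A f hN (φ N t) = φ m t := DFunLike.congr_fun (comp_tr A f φ hφ hN) t
      have h3 : a - φ N t ∈ RingHom.ker (tr A f hN).toAlgHom := by
        rw [RingHom.mem_ker, map_sub, sub_eq_zero]
        exact ht.symm.trans h2.symm
      have h4 := ker_le_sq ((tr A f hN).toAlgHom : A N →+* A m) (tr_surjective A f hf hN) (hcm N) h3
      rw [← Completion.art_ker_res_eq] at h4
      have h5 : φ N t ∈ Ideal.map (p N) (RingHom.ker (Completion.cpl ρ hρ hfg).res) := by
        rw [← (hp N).2]
        refine Ideal.mem_map_of_mem (p N) ?_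
        rw [RingHom.mem_ker]
        exact (DFunLike.congr_fun (Completion.res_comp_toCpl ρ hρ hfg) t).trans h1
      rw [← add_sub_cancel (φ N t) a]
      exact Submodule.add_mem_sup h5 h4
    intro n x
    obtain ⟨y, hy⟩ := tr_surjective A f hf (le_max_right m n) x
    obtain ⟨z, hz⟩ := key (max m n) (le_max_left m n) y
    refine ⟨z, ?_⟩
    rw [← hy, ← hz]
    exact (DFunLike.congr_fun (comp_tr A f p hcompat (le_max_right m n)) z).symm

end System

section Main

open K680.Opn IsLocalRing

/-- A faithful compatible system of surjections identifies a coefficient ring with a limit. -/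
theorem limit_properties (S : CRing Λ k) (A : ℕ → Art Λ k) (f : ∀ n, A (n + 1) ⟶ A n)
    (π : ∀ n, HomSet S.carrier S.res (A n)) (hπ : ∀ n, HomSet.map (f n) (π (n + 1)) = π n)
    (hs : ∀ n, Function.Surjective (π n).1) (hi : ∀ x : S.carrier, (∀ n, (π n).1 x = 0) → x = 0) :
    (∀ a : ∀ n, A n, (∀ n, f n (a (n + 1)) = a n) → ∃! s : S.carrier, ∀ n, (π n).1 s = a n) ∧
      (∀ n, ∃ N, RingHom.ker (π N).1 ≤ IsLocalRing.maximalIdeal S.carrier ^ n) ∧
      (∀ n, ∃ N, IsLocalRing.maximalIdeal S.carrier ^ N ≤ RingHom.ker (π n).1) := by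
  have hstep : ∀ n (x : S.carrier), f n ((π (n + 1)).1 x) = (π n).1 x := fun n x =>
    DFunLike.congr_fun (congrArg Subtype.val (hπ n)) x
  have hanti : ∀ n, (OI.ker (π (n + 1))).J ≤ (OI.ker (π n)).J := by
    intro n x hx
    have hx' : (π (n + 1)).1 x = 0 := hx
    change (π n).1 x = 0
    rw [← hstep, hx']
    exact map_zero (f n).toAlgHom
  have hanti' : Antitone fun n => (OI.ker (π n)).J := antitone_nat_of_succ_le hanti
  have hchev : ∀ n, ∃ N, RingHom.ker (π N).1 ≤ IsLocalRing.maximalIdeal S.carrier ^ n := by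
    intro n
    obtain ⟨N, hN⟩ := exists_le_ker (fun n => OI.ker (π n)) hanti (S.truncHom n) (by
      intro x hx
      have hx0 : x = 0 := hi x fun m => (Submodule.mem_iInf _).1 hx m
      rw [hx0, map_zero])
    refine ⟨N, fun x hx => ?_⟩
    have h1 : (S.truncHom n).1 x = 0 := hN x hx
    exact Ideal.pow_le_pow_right (Nat.le_succ n) (Ideal.Quotient.eq_zero_iff_mem.1 h1)
  have hopen : ∀ n, ∃ N, IsLocalRing.maximalIdeal S.carrier ^ N ≤ RingHom.ker (π n).1 := fun n => (OI.ker (π n)).opn
  refine ⟨fun a ha => ?_, hchev, hopen⟩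
  have huniq : ∀ s t : S.carrier, (∀ n, (π n).1 s = a n) → (∀ n, (π n).1 t = a n) → s = t := by
    intro s t h1 h2
    rw [← sub_eq_zero]
    exact hi _ fun n => by rw [map_sub, h1, h2, sub_self]
  choose x hx using fun n => hs n (a n)
  choose M hM using hchev
  have hatr : ∀ {m n : ℕ} (h : m ≤ n), tr A f h (a n) = a m := by
    intro m n h
    induction n, h using Nat.le_induction with
    | base =>
      rw [tr_self]
      rfl
    | succ n hn ih =>
      rw [← tr_tr A f hn (Nat.le_succ n), tr_succ]
      change tr A f hn (f n (a (n + 1))) = a m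
      rw [ha, ih]
  have hge : ∀ {m n : ℕ}, m ≤ n → (π m).1 (x n) = a m := by
    intro m n h
    rw [← hatr h, ← hx n]
    exact (DFunLike.congr_fun (comp_tr A f (fun n => (π n).1) (fun n => congrArg Subtype.val (hπ n)) h) (x n)).symm
  let g : ℕ → ℕ := fun j => (∑ i ∈ Finset.range (j + 1), M i) + j
  have hgmono : Monotone g := monotone_nat_of_le_succ fun j => by
    change (∑ i ∈ Finset.range (j + 1), M i) + j ≤ (∑ i ∈ Finset.range (j + 1 + 1), M i) + (j + 1)
    rw [Finset.sum_range_succ _ (j + 1)]
    omega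
  have hgM : ∀ j, M j ≤ g j := fun j => by
    change M j ≤ (∑ i ∈ Finset.range (j + 1), M i) + j
    rw [Finset.sum_range_succ]
    omega
  have hgj : ∀ j, j ≤ g j := fun j => Nat.le_add_left _ _
  haveI := S.isAdicComplete
  obtain ⟨L, hL⟩ := IsPrecomplete.prec (I := IsLocalRing.maximalIdeal S.carrier) (M := S.carrier)
    inferInstance (f := fun j => x (g j)) (by
      intro i j hij
      rw [SModEq.sub_mem, smul_eq_mul, Ideal.mul_top]
      apply hM i
      apply hanti' (hgM i)
      change (π (g i)).1 (x (g i) - x (g j)) = 0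
      rw [map_sub, hge le_rfl, hge (hgmono hij), sub_self])
  refine ⟨L, fun m => ?_, fun t ht => huniq t L ht fun m => ?_⟩
  all_goals
    obtain ⟨N, hN⟩ := hopen m
    have h1 := hL (max N m)
    rw [SModEq.sub_mem, smul_eq_mul, Ideal.mul_top] at h1
    have h2 : (π m).1 (x (g (max N m)) - L) = 0 := hN (Ideal.pow_le_pow_right (le_max_left N m) h1)
    rw [map_sub, sub_eq_zero, hge ((le_max_right N m).trans (hgj _))] at h2
    exact h2.symm

/-- The limit of a surjective system of bounded embedding dimension. -/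
theorem exists_limit [IsNoetherianRing Λ] [Module.Finite Λ k]
    (A : ℕ → Art Λ k) (f : ∀ n, A (n + 1) ⟶ A n) (hf : ∀ n, Function.Surjective (f n))
    (d : ℕ) (hd : ∀ n, Module.finrank (IsLocalRing.ResidueField (A n)) (IsLocalRing.CotangentSpace (A n)) ≤ d) :
    ∃ (S : CRing Λ k) (π : ∀ n, HomSet S.carrier S.res (A n)),
      (∀ n, HomSet.map (f n) (π (n + 1)) = π n) ∧
      (∀ n, Function.Surjective (π n).1) ∧
      (∀ a : ∀ n, A n, (∀ n, f n (a (n + 1)) = a n) → ∃! s : S.carrier, ∀ n, (π n).1 s = a n) ∧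
      (∀ n, ∃ N, RingHom.ker (π N).1 ≤ IsLocalRing.maximalIdeal S.carrier ^ n) ∧
      (∀ n, ∃ N, IsLocalRing.maximalIdeal S.carrier ^ N ≤ RingHom.ker (π n).1) := by
  obtain ⟨P, p, hp, hps⟩ := exists_cover A f hf d hd
  let I : Ideal P.carrier := ⨅ n, (OI.ker (p n)).J
  have hI : I ≤ maximalIdeal P.carrier := (iInf_le _ 0).trans (OI.ker (p 0)).le
  have hker : ∀ n, ∀ a ∈ I, (p n).1 a = 0 := fun n a ha => (iInf_le (fun n => (OI.ker (p n)).J) n) ha
  let S := quotCRing P I hI
  let π : ∀ n, HomSet S.carrier S.res (A n) := fun n => quotDesc P I hI (p n) (hker n)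
  have hπ : ∀ n, HomSet.map (f n) (π (n + 1)) = π n := by
    intro n
    apply restr_injective (quotProj P I hI) (res_comp_quotProj P I hI) (quotProj_surjective P I hI)
    rw [restr_quotDesc]
    change HomSet.map (f n) (restr (quotProj P I hI) (res_comp_quotProj P I hI) (quotDesc P I hI (p (n + 1)) (hker (n + 1)))) = _
    rw [restr_quotDesc, hp]
  have hs : ∀ n, Function.Surjective (π n).1 := by
    intro n x
    obtain ⟨y, hy⟩ := hps n x
    exact ⟨quotProj P I hI y, hy⟩
  refine ⟨S, π, hπ, hs, limit_properties S A f π hπ hs ?_⟩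
  intro x hx
  obtain ⟨y, rfl⟩ := quotProj_surjective P I hI x
  rw [quotProj_eq_zero_iff]
  exact (Submodule.mem_iInf _).2 fun n => hx n

end Main

end K725.Limit
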