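import Groth.Agent.ArtFun.K725.Limit
import Groth.Agent.ArtFun.K725.Fib
import Groth.Agent.ArtFun.K724.Smooth
import Groth.Agent.ArtFun.K723.Formal
import Groth.Prelude.Def_W4sfdMinVersal

/-!
# Minimal versal families are injective on tangent spaces
-/

set_option autoImplicit false
set_option linter.style.haveILetI false
set_option linter.unusedSectionVars false

universe u v

open CategoryTheory

namespace K725.MinTangent

section Cotangent

open IsLocalRing

/-- A surjection of Noetherian local rings with kernel in the square of the maximal ideal does not lower the embedding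
dimension. -/
theorem finrank_le_of_ker_le_sq {B C : Type*} [CommRing B] [IsLocalRing B] [IsNoetherianRing B] [CommRing C] [IsLocalRing C]
    [IsNoetherianRing C] (φ : B →+* C) (hφ : Function.Surjective φ) (h : RingHom.ker φ ≤ maximalIdeal B ^ 2) :
    Module.finrank (ResidueField B) (CotangentSpace B) ≤ Module.finrank (ResidueField C) (CotangentSpace C) := by
  haveI : IsLocalHom φ := hφ.isLocalHom
  set c := Module.finrank (ResidueField C) (CotangentSpace C) with hc
  let b := Module.finBasis (ResidueField C) (CotangentSpace C)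
  have hmem : ∀ a : B, φ a ∈ maximalIdeal C → a ∈ maximalIdeal B := by
    intro a ha
    rw [mem_maximalIdeal, mem_nonunits_iff] at ha ⊢
    exact fun hu => ha (hu.map φ)
  have hmem' : ∀ a : B, a ∈ maximalIdeal B → φ a ∈ maximalIdeal C := by
    intro a ha
    rw [mem_maximalIdeal, mem_nonunits_iff] at ha ⊢
    exact fun hu => ha (isUnit_of_map_unit φ a hu)
  have hx' : ∀ i, ∃ x : maximalIdeal C, (maximalIdeal C).toCotangent x = b i := fun i =>
    Ideal.toCotangent_surjective _ _
  choose x hx using hx'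
  have hy' : ∀ i, ∃ y : maximalIdeal B, φ y = x i := by
    intro i
    obtain ⟨y, hy⟩ := hφ (x i)
    exact ⟨⟨y, hmem y (hy ▸ (x i).2)⟩, hy⟩
  choose y hy using hy'
  have hmap : maximalIdeal C = (maximalIdeal B).map φ := (IsLocalRing.map_maximalIdeal_of_surjective φ hφ).symm
  have hspan : Submodule.span (ResidueField B) (Set.range fun i => (maximalIdeal B).toCotangent (y i)) = ⊤ := by
    rw [eq_top_iff]
    rintro z -
    obtain ⟨z, rfl⟩ := Ideal.toCotangent_surjective _ z
    have hz : φ z ∈ maximalIdeal C := hmem' _ z.2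
    have h1 : (maximalIdeal C).toCotangent ⟨φ z, hz⟩ ∈ Submodule.span (ResidueField C) (Set.range b) := by
      rw [b.span_eq]; trivial
    obtain ⟨g, hg⟩ := (Submodule.mem_span_range_iff_exists_fun _).1 h1
    have ha' : ∀ i, ∃ a : B, residue C (φ a) = g i := fun i => by
      obtain ⟨c, hc⟩ := residue_surjective (g i)
      obtain ⟨a, rfl⟩ := hφ c
      exact ⟨a, hc⟩
    choose a ha using ha'
    have h2 : (maximalIdeal C).toCotangent ⟨φ z, hz⟩ = (maximalIdeal C).toCotangent (∑ i, φ (a i) • x i) := by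
      rw [← hg, map_sum]
      refine Finset.sum_congr rfl fun i _ => ?_
      rw [map_smul, hx, ← ha]
      rfl
    rw [Ideal.toCotangent_eq] at h2
    have h3 : φ ((z : B) - ((∑ i, a i • y i : maximalIdeal B) : B)) ∈ (maximalIdeal B ^ 2).map φ := by
      rw [Ideal.map_pow, ← hmap]
      convert h2 using 1
      simp [hy]
    obtain ⟨w, hw, hw'⟩ := (Ideal.mem_map_iff_of_surjective φ hφ).1 h3
    have h4 : (z : B) - ((∑ i, a i • y i : maximalIdeal B) : B) ∈ maximalIdeal B ^ 2 := by
      have h5 : (z : B) - ((∑ i, a i • y i : maximalIdeal B) : B) - w ∈ RingHom.ker φ := by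
        rw [RingHom.mem_ker, map_sub φ _ w, hw', sub_self]
      have h6 := Ideal.add_mem _ (h h5) hw
      rwa [sub_add_cancel] at h6
    rw [← Ideal.toCotangent_eq] at h4
    rw [h4, map_sum]
    refine Submodule.sum_mem _ fun i _ => ?_
    rw [map_smul]
    exact Submodule.smul_mem _ (residue B (a i)) (Submodule.subset_span (Set.mem_range_self i))
  have := finrank_le_of_span_eq_top hspan
  rwa [Fintype.card_fin] at this

end Cotangent

open ArtFun ArtFun.Art
open K724.Basic K724.Smooth

variable {Λ : Type u} {k : Type u} [CommRing Λ] [Field k] [Algebra Λ k]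

/-- Factorisation through a surjection. -/
theorem exists_desc {S : Type u} [CommRing S] [Algebra Λ S] {σ : S →ₐ[Λ] k} {A B : Art Λ k} (π : HomSet S σ A)
    (hs : Function.Surjective π.1) (φ : HomSet S σ B) (h : RingHom.ker π.1 ≤ RingHom.ker φ.1) :
    ∃ g : A ⟶ B, HomSet.map g π = φ := by
  let e := Ideal.quotientKerAlgEquivOfSurjective hs
  let q : S ⧸ RingHom.ker π.1 →ₐ[Λ] B := Ideal.Quotient.liftₐ (RingHom.ker π.1) φ.1 h
  have he : ∀ r, e.symm (π.1 r) = Ideal.Quotient.mk _ r := by
    intro r
    rw [AlgEquiv.symm_apply_eq]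
    rfl
  have h1 : ∀ r, (q.comp e.symm.toAlgHom) (π.1 r) = φ.1 r := by
    intro r
    change q (e.symm (π.1 r)) = _
    rw [he]
    rfl
  refine ⟨⟨q.comp e.symm.toAlgHom, ?_⟩, Subtype.ext (AlgHom.ext h1)⟩
  apply AlgHom.ext
  intro a
  obtain ⟨r, rfl⟩ := hs a
  change B.res ((q.comp e.symm.toAlgHom) (π.1 r)) = A.res (π.1 r)
  rw [h1]
  exact (DFunLike.congr_fun φ.2 r).trans (DFunLike.congr_fun π.2 r).symm

theorem hom_eq_of_surjective {S : Type u} [CommRing S] [Algebra Λ S] {σ : S →ₐ[Λ] k} {A B : Art Λ k} (π : HomSet S σ A)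
    (hs : Function.Surjective π.1) {g g' : A ⟶ B} (h : HomSet.map g π = HomSet.map g' π) : g = g' := by
  apply hom_ext
  apply AlgHom.ext
  intro a
  obtain ⟨r, rfl⟩ := hs a
  exact DFunLike.congr_fun (congrArg Subtype.val h) r

/-- A compatible system of elements over the levels of a limit presentation comes from a family. -/
theorem exists_family {F : Art Λ k ⥤ Type v} (S : CRing Λ k) (A : ℕ → Art Λ k) (f : ∀ n, A (n + 1) ⟶ A n)
    (π : ∀ n, HomSet S.carrier S.res (A n)) (hπ : ∀ n, HomSet.map (f n) (π (n + 1)) = π n)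
    (hs : ∀ n, Function.Surjective (π n).1)
    (hc : ∀ n, ∃ N, RingHom.ker (π N).1 ≤ IsLocalRing.maximalIdeal S.carrier ^ n)
    (v : ∀ n, F.obj (A n)) (hv : ∀ n, F.map (f n) (v (n + 1)) = v n) :
    ∃ ζ : Family S.carrier S.res F, ∀ n, ζ.app _ (π n) = v n := by
  have hfac : ∀ {B : Art Λ k} (φ : HomSet S.carrier S.res B), ∃ (n : ℕ) (g : A n ⟶ B), HomSet.map g (π n) = φ := by
    intro B φ
    obtain ⟨m, hm⟩ := (K680.Opn.OI.ker φ).opn
    obtain ⟨N, hN⟩ := hc m
    obtain ⟨g, hg⟩ := exists_desc (π N) (hs N) φ (hN.trans hm)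
    exact ⟨N, g, hg⟩
  have hvtr : ∀ {m n : ℕ} (h : m ≤ n), F.map (Limit.tr A f h) (v n) = v m := by
    intro m n h
    induction n, h using Nat.le_induction with
    | base => rw [Limit.tr_self, map_id_apply]
    | succ n hn ih => rw [← Limit.tr_tr A f hn (Nat.le_succ n), Limit.tr_succ, ← map_comp_apply, hv, ih]
  have hπtr : ∀ {m n : ℕ} (h : m ≤ n), HomSet.map (Limit.tr A f h) (π n) = π m := fun h =>
    Subtype.ext (Limit.comp_tr A f (fun n => (π n).1) (fun n => congrArg Subtype.val (hπ n)) h)
  have hind' : ∀ {B : Art Λ k} {m n : ℕ} (_ : m ≤ n) (g : A m ⟶ B) (g' : A n ⟶ B),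
      HomSet.map g (π m) = HomSet.map g' (π n) → F.map g (v m) = F.map g' (v n) := by
    intro B m n h g g' e
    have : Limit.tr A f h ≫ g = g' := by
      apply hom_eq_of_surjective (π n) (hs n)
      rw [← e, ← hπtr h]
      rfl
    rw [← this, ← map_comp_apply, hvtr]
  have hind : ∀ {B : Art Λ k} {m n : ℕ} (g : A m ⟶ B) (g' : A n ⟶ B),
      HomSet.map g (π m) = HomSet.map g' (π n) → F.map g (v m) = F.map g' (v n) := by
    intro B m n g g' e
    rcases le_total m n with h | h
    · exact hind' h g g' e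
    · exact (hind' h g' g e.symm).symm
  refine ⟨{ app := fun B φ => F.map (hfac φ).choose_spec.choose (v (hfac φ).choose), natural := ?_ }, ?_⟩
  · intro B C g φ
    dsimp only
    rw [map_comp_apply]
    apply hind
    rw [(hfac (HomSet.map g φ)).choose_spec.choose_spec]
    conv_lhs => rw [← (hfac φ).choose_spec.choose_spec]
    rfl
  · intro n
    have h1 : F.map (𝟙 (A n)) (v n) = v n := map_id_apply F (A n) (v n)
    conv_rhs => rw [← h1]
    apply hind
    rw [(hfac (π n)).choose_spec.choose_spec]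
    exact Subtype.ext (AlgHom.ext fun _ => rfl)


end K725.MinTangent
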