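import Groth.Agent.ArtFun.K725.MinTangent

/-!
# Restriction of a formal element along a tangent vector in the kernel
-/

set_option autoImplicit false
set_option linter.style.haveILetI false
set_option linter.unusedSectionVars false

universe u v

open CategoryTheory

namespace K725.MinTangent

open ArtFun ArtFun.Art
open K724.Basic K724.Smooth

variable {Λ : Type u} {k : Type u} [CommRing Λ] [Field k] [Algebra Λ k]

section Restrict

variable (R : CRing Λ k) (δ : HomSet R.carrier R.res (dual Λ k))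

lemma fst_eq (a : R.carrier) : (δ.1 a : DualNumber k).fst = R.res a := DFunLike.congr_fun δ.2 a

lemma dual_mul_fst (x y : dual Λ k) : (x * y : DualNumber k).fst = (x : DualNumber k).fst * (y : DualNumber k).fst :=
  TrivSqZeroExt.fst_mul _ _

lemma dual_mul_snd (x y : dual Λ k) : (x * y : DualNumber k).snd =
    (x : DualNumber k).fst * (y : DualNumber k).snd + (y : DualNumber k).fst * (x : DualNumber k).snd := by
  have key : ∀ x y : DualNumber k, (x * y).snd = x.fst * y.snd + y.fst * x.snd := fun x y => by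
    rw [TrivSqZeroExt.snd_mul, op_smul_eq_smul, smul_eq_mul, smul_eq_mul]
  exact key x y

lemma apply_eq_zero_of_mem_sq {a : R.carrier} (ha : a ∈ IsLocalRing.maximalIdeal R.carrier ^ 2) : δ.1 a = 0 := by
  have h1 : IsLocalRing.maximalIdeal R.carrier ^ 2 ≤ RingHom.ker δ.1 := by
    rw [pow_two, Ideal.mul_le]
    intro x hx y hy
    rw [CRing.mem_maximalIdeal_iff] at hx hy
    rw [RingHom.mem_ker]
    have e1 := fst_eq R δ x
    have e2 := fst_eq R δ y
    rw [hx] at e1
    rw [hy] at e2
    refine (map_mul δ.1 x y).trans (TrivSqZeroExt.ext ?_ ?_)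
    · exact (dual_mul_fst (δ.1 x) (δ.1 y)).trans (by rw [e1, zero_mul]; rfl)
    · exact (dual_mul_snd (δ.1 x) (δ.1 y)).trans (by rw [e1, e2, zero_mul, zero_mul, add_zero]; rfl)
  exact h1 ha

theorem exists_delta (n : ℕ) : ∃ D : R.trunc (n + 1) ⟶ dual Λ k, HomSet.map D (R.truncHom (n + 1)) = δ := by
  apply exists_desc (R.truncHom (n + 1)) Ideal.Quotient.mk_surjective
  intro a ha
  have h1 : a ∈ IsLocalRing.maximalIdeal R.carrier ^ (n + 1 + 1) := Ideal.Quotient.eq_zero_iff_mem.1 ha
  exact apply_eq_zero_of_mem_sq R δ (Ideal.pow_le_pow_right (by omega) h1)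

lemma surjective_delta {b : R.carrier} (hb : R.res b = 0) (hb' : (δ.1 b : DualNumber k).snd ≠ 0) :
    Function.Surjective δ.1 := by
  intro y
  obtain ⟨s, hs⟩ := R.res_surjective (TrivSqZeroExt.fst (y : DualNumber k))
  obtain ⟨t, ht⟩ := R.res_surjective ((TrivSqZeroExt.snd (y : DualNumber k) - (δ.1 s : DualNumber k).snd) *
    ((δ.1 b : DualNumber k).snd)⁻¹)
  refine ⟨s + t * b, ?_⟩
  have e1 := fst_eq R δ b
  rw [hb] at e1
  refine TrivSqZeroExt.ext ?_ ?_
  · refine (fst_eq R δ _).trans ?_
    rw [map_add, map_mul, hb, mul_zero, add_zero, hs]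
  · have h1 : δ.1 (s + t * b) = δ.1 s + δ.1 t * δ.1 b := by rw [map_add, map_mul]
    have h2 : (δ.1 s + δ.1 t * δ.1 b : DualNumber k).snd = (δ.1 s : DualNumber k).snd +
        (δ.1 t * δ.1 b : DualNumber k).snd := rfl
    refine (congrArg TrivSqZeroExt.snd h1).trans (h2.trans ?_)
    rw [dual_mul_snd (δ.1 t) (δ.1 b), e1, zero_mul, add_zero, fst_eq, ht, mul_assoc, inv_mul_cancel₀ hb', mul_one]
    abel

end Restrict

end K725.MinTangent
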