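import Groth.Agent.ArtFun.K725.MinTangent2

/-!
# Restriction of a formal element along a tangent vector in the kernel
-/

set_option autoImplicit false
set_option linter.style.haveILetI false
set_option linter.unusedSectionVars false

universe u v

open CategoryTheory

namespace K725.MinTangent

open ArtFun ArtFun.Art
open K724.Basic K724.Smooth

variable {Λ : Type u} {k : Type u} [CommRing Λ] [Field k] [Algebra Λ k]

variable (R : CRing Λ k) (δ : HomSet R.carrier R.res (dual Λ k))

lemma map_comp_homSet {R : Type u} [CommRing R] [Algebra Λ R] {resR : R →ₐ[Λ] k} {A B C : Art Λ k}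
    (f : A ⟶ B) (g : B ⟶ C) (φ : HomSet R resR A) : HomSet.map g (HomSet.map f φ) = HomSet.map (f ≫ g) φ :=
  Subtype.ext (AlgHom.ext fun _ => rfl)

lemma truncHom_surjective (R : CRing Λ k) (n : ℕ) : Function.Surjective (R.truncHom n).1 :=
  Ideal.Quotient.mk_surjective

/-- **The restriction of a formal element along a tangent vector of the kernel.** -/
theorem exists_restricted [IsNoetherianRing Λ] [Module.Finite Λ k] {F : Art Λ k ⥤ Type v} (h1 : S1 F)
    (ξ : Family R.carrier R.res F) (x₀ : F.obj (base Λ k)) (hδ : ξ.app _ δ = F.map baseToDual x₀)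
    (b : R.carrier) (hb : R.res b = 0) (hb' : (δ.1 b : DualNumber k).snd ≠ 0) :
    ∃ (S : CRing Λ k) (u : FormalElt F S) (g : S.carrier →ₐ[Λ] R.carrier) (hg : R.res.comp g = S.res),
      u.push g hg = ξ.toFormalElt ∧ ∀ s, (δ.1 (g s) : DualNumber k).snd = 0 := by
  choose D hD using exists_delta R δ
  have hD' : ∀ n (a : R.carrier), D n ((R.truncHom (n + 1)).1 a) = δ.1 a := fun n a =>
    DFunLike.congr_fun (congrArg Subtype.val (hD n)) a
  have hδs := surjective_delta R δ hb hb'
  have hDs : ∀ n, Function.Surjective (D n) := by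
    intro n y
    obtain ⟨a, ha⟩ := hδs y
    exact ⟨(R.truncHom (n + 1)).1 a, (hD' n a).trans ha⟩
  have hDt : ∀ n, R.truncMap (n + 1) ≫ D n = D (n + 1) := by
    intro n
    apply hom_eq_of_surjective (R.truncHom (n + 1 + 1)) (truncHom_surjective R (n + 1 + 1))
    rw [← map_comp_homSet, CRing.truncMap_truncHom]
    exact (hD n).trans (hD (n + 1)).symm
  have hA := fun n => K724.Basic.exists_isFibreProd (baseToDual (Λ := Λ) (k := k)) (D n) (hDs n)
  choose A q p hqp using hA
  have hf := fun n => IsFibreProd.exists_lift (hqp n) (q (n + 1)) (p (n + 1) ≫ R.truncMap (n + 1)) (by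
    rw [Category.assoc, hDt]
    exact (hqp (n + 1)).w)
  choose f hf₁ hf₂ using hf
  have hf₁' : ∀ n (a : A (n + 1)), q n (f n a) = q (n + 1) a := fun n a =>
    DFunLike.congr_fun (congrArg Hom.toAlgHom (hf₁ n)) a
  have hf₂' : ∀ n (a : A (n + 1)), p n (f n a) = R.truncMap (n + 1) (p (n + 1) a) := fun n a =>
    DFunLike.congr_fun (congrArg Hom.toAlgHom (hf₂ n)) a
  have hDt' : ∀ n (x : R.trunc (n + 1 + 1)), D n (R.truncMap (n + 1) x) = D (n + 1) x := fun n x =>
    DFunLike.congr_fun (congrArg Hom.toAlgHom (hDt n)) x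
  have hw' : ∀ n (a : A n), baseToDual (q n a) = D n (p n a) := fun n a =>
    DFunLike.congr_fun (congrArg Hom.toAlgHom (hqp n).w) a
  -- the transition maps form fibre squares
  have hsq : ∀ n, IsFibreProd (f n) (p (n + 1)) (p n) (R.truncMap (n + 1)) := by
    intro n
    refine ⟨hf₂ n, ?_, ?_⟩
    · intro a a' e₁ e₂
      apply (hqp (n + 1)).inj _ _ _ e₂
      rw [← hf₁', ← hf₁', e₁]
    · intro a y e
      obtain ⟨c, hc₁, hc₂⟩ := (hqp (n + 1)).surj (q n a) y (by
        rw [hw', e, hDt'])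
      refine ⟨c, ?_, hc₂⟩
      apply (hqp n).inj
      · rw [hf₁', hc₁]
      · rw [hf₂', hc₂, e]
  have htr : ∀ n, Function.Surjective (R.truncMap n) := by
    intro n x
    obtain ⟨a, rfl⟩ := Ideal.Quotient.mk_surjective x
    exact ⟨Ideal.Quotient.mk _ a, rfl⟩
  have hfs : ∀ n, Function.Surjective (f n) := by
    intro n a
    obtain ⟨y, hy⟩ := htr (n + 1) (p n a)
    obtain ⟨c, hc, -⟩ := (hsq n).surj a y hy.symm
    exact ⟨c, hc⟩
  -- elements
  let xi : ∀ n, F.obj (R.trunc n) := fun n => ξ.app _ (R.truncHom n)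
  have hxi : ∀ n, F.map (R.truncMap n) (xi (n + 1)) = xi n := fun n => ξ.toFormalElt.compat n
  have hv0 : ∃ v : F.obj (A 0), F.map (p 0) v = xi 1 := by
    obtain ⟨v, -, hv⟩ := (cmp_surjective_iff F (hqp 0)).1 (h1 _ _ _ _ (hqp 0) (hDs 0)) x₀ (xi 1) (by
      rw [← hδ, ← hD 0, ξ.natural])
    exact ⟨v, hv⟩
  have hvs : ∀ n (v : F.obj (A n)), F.map (p n) v = xi (n + 1) →
      ∃ v' : F.obj (A (n + 1)), F.map (f n) v' = v ∧ F.map (p (n + 1)) v' = xi (n + 1 + 1) := by
    intro n v hv
    exact (cmp_surjective_iff F (hsq n)).1 (h1 _ _ _ _ (hsq n) (htr (n + 1))) v (xi (n + 1 + 1)) (by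
      rw [hv, hxi])
  let V : ∀ n : ℕ, {v : F.obj (A n) // F.map (p n) v = xi (n + 1)} := fun n =>
    Nat.rec ⟨hv0.choose, hv0.choose_spec⟩ (fun n v => ⟨(hvs n v.1 v.2).choose, (hvs n v.1 v.2).choose_spec.2⟩) n
  have hV : ∀ n, F.map (f n) (V (n + 1)).1 = (V n).1 := fun n => (hvs n (V n).1 (V n).2).choose_spec.1
  have htr' : ∀ n (a : R.carrier), R.truncMap n ((R.truncHom (n + 1)).1 a) = (R.truncHom n).1 a := fun n a =>
    DFunLike.congr_fun (congrArg Subtype.val (CRing.truncMap_truncHom R n)) a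
  have hqres : ∀ n (a : A n), q n a = (A n).res a := fun n a =>
    DFunLike.congr_fun (congrArg Hom.toAlgHom (eq_toBase (q n))) a
  -- the projections and the transition maps
  have hptr : ∀ {m n : ℕ} (h : m ≤ n) (a : A n) (r : R.carrier), p n a = (R.truncHom (n + 1)).1 r →
      p m (Limit.tr A f h a) = (R.truncHom (m + 1)).1 r := by
    intro m n h
    induction n, h using Nat.le_induction with
    | base =>
      intro a r e
      rw [Limit.tr_self]
      exact e
    | succ n hn ih =>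
      intro a r e
      rw [← Limit.tr_tr A f hn (Nat.le_succ n), Limit.tr_succ]
      change p m (Limit.tr A f hn (f n a)) = _
      apply ih
      rw [hf₂', e, htr']
  -- lifts of elements of `m ^ 2`
  have hlift : ∀ n (x : R.carrier), x ∈ IsLocalRing.maximalIdeal R.carrier ^ 2 →
      ∃ a : A n, p n a = (R.truncHom (n + 1)).1 x ∧ q n a = 0 := by
    intro n x hx
    obtain ⟨a, ha₁, ha₂⟩ := (hqp n).surj 0 ((R.truncHom (n + 1)).1 x) (by
      rw [hD', apply_eq_zero_of_mem_sq R δ hx]
      exact map_zero (baseToDual (Λ := Λ) (k := k)).toAlgHom)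
    exact ⟨a, ha₂, ha₁⟩
  have hmem : ∀ n (a : A n), q n a = 0 → a ∈ IsLocalRing.maximalIdeal (A n) := by
    intro n a ha
    rw [hqres] at ha
    rwa [Art.mem_maximalIdeal_iff]
  have hpow4 : IsLocalRing.maximalIdeal R.carrier ^ 2 * IsLocalRing.maximalIdeal R.carrier ^ 2 ≤
      IsLocalRing.maximalIdeal R.carrier ^ 2 := Ideal.mul_le_right
  have hsq2' : ∀ n (r : R.carrier), r ∈ IsLocalRing.maximalIdeal R.carrier ^ 2 * IsLocalRing.maximalIdeal R.carrier ^ 2 →
      r ∈ IsLocalRing.maximalIdeal R.carrier ^ 2 ∧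
      ∀ a : A n, p n a = (R.truncHom (n + 1)).1 r → q n a = 0 → a ∈ IsLocalRing.maximalIdeal (A n) ^ 2 := by
    intro n r hr
    refine Submodule.mul_induction_on hr ?_ ?_
    · intro x hx y hy
      refine ⟨hpow4 (Ideal.mul_mem_mul hx hy), ?_⟩
      intro a ha₁ ha₂
      obtain ⟨x', hx₁, hx₂⟩ := hlift n x hx
      obtain ⟨y', hy₁, hy₂⟩ := hlift n y hy
      have h3 : a = x' * y' := by
        apply (hqp n).inj
        · rw [ha₂]
          exact ((map_mul (q n).toAlgHom x' y').trans (by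
            change q n x' * q n y' = 0
            rw [hx₂, zero_mul])).symm
        · rw [ha₁, map_mul]
          exact ((map_mul (p n).toAlgHom x' y').trans (by
            change p n x' * p n y' = _
            rw [hx₁, hy₁])).symm
      rw [h3, pow_two]
      exact Ideal.mul_mem_mul (hmem n x' hx₂) (hmem n y' hy₂)
    · rintro x y ⟨hx, ihx⟩ ⟨hy, ihy⟩
      refine ⟨Ideal.add_mem _ hx hy, ?_⟩
      intro a ha₁ ha₂
      obtain ⟨x', hx₁, hx₂⟩ := hlift n x hx
      have h3 := ihy (a - x') ((map_sub (p n).toAlgHom a x').trans (by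
        change p n a - p n x' = _
        rw [ha₁, hx₁, map_add, add_sub_cancel_left])) ((map_sub (q n).toAlgHom a x').trans (by
        change q n a - q n x' = _
        rw [ha₂, hx₂, sub_zero]))
      have h4 := Ideal.add_mem _ h3 (ihx x' hx₁ hx₂)
      rwa [sub_add_cancel] at h4
  have hkersq : ∀ n (h : 2 ≤ n), RingHom.ker ((Limit.tr A f h).toAlgHom : A n →+* A 2) ≤
      IsLocalRing.maximalIdeal (A n) ^ 2 := by
    intro n h a ha
    have ha' : Limit.tr A f h a = 0 := ha
    obtain ⟨r, hr⟩ := truncHom_surjective R (n + 1) (p n a)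
    have h3 := hptr h a r hr.symm
    rw [ha'] at h3
    have h4 : (R.truncHom (2 + 1)).1 r = 0 := h3.symm.trans (map_zero (p 2).toAlgHom)
    have h5 : r ∈ IsLocalRing.maximalIdeal R.carrier ^ 2 * IsLocalRing.maximalIdeal R.carrier ^ 2 := by
      rw [← pow_add]
      exact Ideal.Quotient.eq_zero_iff_mem.1 h4
    refine (hsq2' n r h5).2 a hr.symm ?_
    rw [hqres, ← res_app (Limit.tr A f h), ha']
    exact map_zero (A 2).res
  let c : ℕ → ℕ := fun n => Module.finrank (IsLocalRing.ResidueField (A n)) (IsLocalRing.CotangentSpace (A n))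
  have hc : ∀ n, c n ≤ c 0 + c 1 + c 2 := by
    intro n
    rcases Nat.lt_or_ge n 2 with h | h
    · interval_cases n <;> omega
    · have := finrank_le_of_ker_le_sq ((Limit.tr A f h).toAlgHom : A n →+* A 2) (Limit.tr_surjective A f hfs h) (hkersq n h)
      change c n ≤ c 2 at this
      omega
  obtain ⟨S, π, hπ, hπs, -, hker, -⟩ := Limit.exists_limit A f hfs _ hc
  obtain ⟨ζ, hζ⟩ := exists_family S A f π hπ hπs hker (fun n => (V n).1) hV
  -- the map
  let φ : ∀ n, HomSet S.carrier S.res (R.trunc n) := fun n => HomSet.map (R.truncMap n) (HomSet.map (p n) (π n))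
  have hφ' : ∀ n, HomSet.map (p n) (π n) = φ (n + 1) := by
    intro n
    change _ = HomSet.map (R.truncMap (n + 1)) (HomSet.map (p (n + 1)) (π (n + 1)))
    rw [map_comp_homSet, ← hf₂, ← map_comp_homSet, hπ]
  have hφ : ∀ n, HomSet.map (R.truncMap n) (φ (n + 1)) = φ n := by
    intro n
    rw [← hφ']
  obtain ⟨g, hg, hgn⟩ := K723.Formal.exists_glue R φ hφ
  refine ⟨S, ζ.toFormalElt, g, hg, ?_, ?_⟩
  · apply FormalElt.ext'
    intro n
    change F.map (CRing.truncMapOfHom g hg n) (ζ.app _ (S.truncHom n)) = ξ.app _ (R.truncHom n)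
    rw [← ζ.natural]
    have h3 : HomSet.map (CRing.truncMapOfHom g hg n) (S.truncHom n) = φ n :=
      Subtype.ext ((AlgHom.ext fun _ => rfl : _ = (R.truncHom n).1.comp g).trans (hgn n))
    rw [h3]
    change ζ.app _ (HomSet.map (R.truncMap n) (HomSet.map (p n) (π n))) = _
    rw [ζ.natural, ζ.natural, hζ, (V n).2]
    exact hxi n
  · intro s
    have h3 : (R.truncHom (0 + 1)).1 (g s) = (φ (0 + 1)).1 s := DFunLike.congr_fun (hgn 1) s
    have h4 : (φ (0 + 1)).1 s = p 0 ((π 0).1 s) := (DFunLike.congr_fun (congrArg Subtype.val (hφ' 0)) s).symm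
    rw [← hD' 0, h3, h4, ← hw']
    rfl

end K725.MinTangent
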