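import Groth.Agent.ArtFun.K725.Tangent
import Groth.Agent.ArtFun.K725.Fib
import Groth.Agent.ArtFun.K723.Formal
import Mathlib.RingTheory.Noetherian.Basic

/-!
# Families over complete rings and natural transformations between prorepresentable functors
-/

set_option autoImplicit false
set_option linter.style.haveILetI false
set_option linter.unusedSectionVars false

universe u v

open CategoryTheory

namespace K725.Yoneda

open ArtFun

variable {Λ : Type u} {k : Type u} [CommRing Λ] [Field k] [Algebra Λ k]

lemma map_comp_homSet {R : Type u} [CommRing R] [Algebra Λ R] {resR : R →ₐ[Λ] k} {A B C : Art Λ k}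
    (f : A ⟶ B) (g : B ⟶ C) (φ : HomSet R resR A) : HomSet.map g (HomSet.map f φ) = HomSet.map (f ≫ g) φ :=
  Subtype.ext (AlgHom.ext fun _ => rfl)

/-- A family over a complete ring is determined by its values on the truncations. -/
theorem family_ext {F : Art Λ k ⥤ Type v} {R : CRing Λ k} {ξ η : Family R.carrier R.res F}
    (h : ∀ n, ξ.app _ (R.truncHom n) = η.app _ (R.truncHom n)) (A : Art Λ k) (φ : HomSet R.carrier R.res A) :
    ξ.app A φ = η.app A φ := by
  obtain ⟨n, g, rfl⟩ := K723.Formal.exists_factor R A φ
  rw [ξ.natural, η.natural, h]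

/-- **Versal-type factorisation**: a family over `R` all of whose truncations lift compatibly through a universal family
comes from a unique ring map. Here: for a universal family `ξ` over `S`, every family `η` over `R` is `ξ` along a map `S → R`. -/
theorem exists_hom_of_universal {F : Art Λ k ⥤ Type v} {S R : CRing Λ k} (ξ : Family S.carrier S.res F)
    (hξ : IsUniversal ξ) (η : Family R.carrier R.res F) :
    ∃ g : S.carrier →ₐ[Λ] R.carrier, ∃ hg : R.res.comp g = S.res,
      ∀ (A : Art Λ k) (φ : HomSet R.carrier R.res A), η.app A φ = (ξ.along g hg).app A φ := by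
  choose ψ hψ using fun n => (hξ (R.trunc n)).2 (η.app _ (R.truncHom n))
  have hcompat : ∀ n, HomSet.map (R.truncMap n) (ψ (n + 1)) = ψ n := by
    intro n
    apply (hξ _).1
    rw [ξ.natural, hψ, hψ, ← η.natural, CRing.truncMap_truncHom]
  obtain ⟨g, hg, hgn⟩ := K723.Formal.exists_glue R ψ hcompat
  refine ⟨g, hg, fun A φ => ?_⟩
  obtain ⟨n, u, rfl⟩ := K723.Formal.exists_factor R A φ
  rw [η.natural, (ξ.along g hg).natural, ← hψ]
  congr 2
  exact Subtype.ext (hgn n).symm

/-- A surjective endomorphism of a Noetherian ring is bijective. -/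
theorem bijective_of_surjective_endo {R : Type u} [CommRing R] [IsNoetherianRing R] (f : R →+* R)
    (hf : Function.Surjective f) : Function.Bijective f := by
  refine ⟨?_, hf⟩
  rw [injective_iff_map_eq_zero]
  intro x hx
  let K : ℕ →o Ideal R := ⟨fun n => RingHom.ker (f ^ n), monotone_nat_of_le_succ fun n y hy => by
    rw [RingHom.mem_ker] at hy ⊢
    rw [pow_succ', RingHom.mul_def, RingHom.comp_apply, hy, map_zero]⟩
  obtain ⟨n, hn⟩ := (monotone_stabilizes_iff_noetherian (R := R) (M := R)).2 inferInstance K
  have hs : Function.Surjective (f ^ n) := by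
    have : ((f ^ n : R →+* R) : R → R) = f^[n] := by
      clear hn
      induction n with
      | zero => rfl
      | succ n ih => rw [pow_succ, RingHom.mul_def, RingHom.coe_comp, ih, Function.iterate_succ]
    rw [this]
    exact hf.iterate n
  obtain ⟨y, rfl⟩ := hs x
  have h1 : y ∈ RingHom.ker (f ^ (n + 1)) := by
    rw [RingHom.mem_ker, pow_succ', RingHom.mul_def, RingHom.comp_apply, hx]
  have h2 : RingHom.ker (f ^ n) = RingHom.ker (f ^ (n + 1)) := hn (n + 1) (Nat.le_succ n)
  rw [← h2, RingHom.mem_ker] at h1
  exact h1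

/-- Tangent-injective endomorphisms of a coefficient ring are bijective. -/
theorem bijective_of_tangent_injective (R : CRing Λ k) (g : R.carrier →ₐ[Λ] R.carrier) (hg : R.res.comp g = R.res)
    (h : ∀ δ₁ δ₂ : HomSet R.carrier R.res (Art.dual Λ k), δ₁.1.comp g = δ₂.1.comp g → δ₁ = δ₂) :
    Function.Bijective g :=
  bijective_of_surjective_endo (g : R.carrier →+* R.carrier)
    (Tangent.surjective_of_tangent_injective R.res R.res g hg R.res_surjective
      (by rw [Completion.ker_res_eq]; exact IsNoetherian.noetherian _) h)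

theorem bijective_app_of_tangent_bijective {U : Art Λ k ⥤ Type v} (V : ProRep U) (φ : U ⟶ U)
    (hd : Function.Injective (TangentSpace.map φ)) (A : Art Λ k) : Function.Bijective (φ.app A) := by
  obtain ⟨g, hg, h⟩ := exists_hom_of_universal V.family V.universal (V.family.push φ)
  have h' : ∀ (A : Art Λ k) (ψ : HomSet V.ring.carrier V.ring.res A), φ.app A (V.family.app A ψ) =
      V.family.app A ⟨ψ.1.comp g, by rw [← AlgHom.comp_assoc, ψ.2, hg]⟩ := h
  have hbij : Function.Bijective g := by
    refine bijective_of_tangent_injective V.ring g hg fun δ₁ δ₂ e => ?_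
    apply (V.universal _).1
    apply hd
    change φ.app _ _ = φ.app _ _
    rw [h', h']
    congr 1
    exact Subtype.ext e
  let e := AlgEquiv.ofBijective g hbij
  have key : Function.Bijective (fun ψ : HomSet V.ring.carrier V.ring.res A =>
      (⟨ψ.1.comp g, by rw [← AlgHom.comp_assoc, ψ.2, hg]⟩ : HomSet V.ring.carrier V.ring.res A)) := by
    constructor
    · intro ψ₁ ψ₂ e
      apply Subtype.ext
      apply AlgHom.ext
      intro x
      obtain ⟨y, rfl⟩ := hbij.2 x
      exact DFunLike.congr_fun (congrArg Subtype.val e) y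
    · intro ψ
      refine ⟨⟨ψ.1.comp e.symm.toAlgHom, ?_⟩, ?_⟩
      · ext x
        obtain ⟨y, rfl⟩ := hbij.2 x
        have h1 : e.symm (g y) = y := e.symm_apply_apply y
        change A.res (ψ.1 (e.symm (g y))) = V.ring.res (g y)
        rw [h1]
        exact (DFunLike.congr_fun ψ.2 y).trans (DFunLike.congr_fun hg y).symm
      · apply Subtype.ext
        apply AlgHom.ext
        intro y
        change ψ.1 (e.symm (g y)) = ψ.1 y
        exact congrArg ψ.1 (e.symm_apply_apply y)
  have hcomp : (φ.app A : U.obj A → U.obj A) ∘ V.family.app A = V.family.app A ∘ (fun ψ : HomSet V.ring.carrier V.ring.res A =>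
      (⟨ψ.1.comp g, by rw [← AlgHom.comp_assoc, ψ.2, hg]⟩ : HomSet V.ring.carrier V.ring.res A)) :=
    funext fun ψ => h' A ψ
  have h3 : Function.Bijective ((φ.app A : U.obj A → U.obj A) ∘ V.family.app A) := by
    rw [hcomp]
    exact (V.universal A).comp key
  exact (Function.Bijective.of_comp_iff _ (V.universal A)).1 h3

end K725.Yoneda
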